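import Mathlib
import Cfsg.Agent.Lib.ReeTori.Basic
import Cfsg.Agent.Lib.Elementary

/-!
Generalities for the local structure of a small Ree group: counting by conjugation, centralisers,
elements of order twice an odd number and elementary abelian normal subgroups.
-/

set_option autoImplicit false
set_option linter.unusedSectionVars false
set_option linter.style.haveILetI false
set_option linter.deprecated false

namespace CfsgLib.ReeLocal

open CfsgLib.ReeTori

variable {G : Type*} [Group G]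

theorem le_norm {T A : Subgroup G} (h : ∀ s ∈ T, ∀ x ∈ A, s * x * s⁻¹ ∈ A) :
    T ≤ Subgroup.normalizer (A : Set G) := by
  intro s hs
  rw [Subgroup.mem_normalizer_iff]
  refine fun x => ⟨h s hs x, fun hx => ?_⟩
  have h1 := h s⁻¹ (inv_mem hs) _ hx
  rwa [show s⁻¹ * (s * x * s⁻¹) * s⁻¹⁻¹ = x by group] at h1

/-- The centraliser of a cyclic subgroup. -/
theorem cent_zpowers (h : G) :
    Subgroup.centralizer ((Subgroup.zpowers h : Subgroup G) : Set G) = Subgroup.centralizer {h} := by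
  refine le_antisymm (Subgroup.centralizer_le (by simp)) fun y hy => ?_
  rw [Subgroup.mem_centralizer_iff]
  intro z hz
  obtain ⟨k, rfl⟩ := Subgroup.mem_zpowers_iff.mp hz
  exact (Commute.zpow_left (show Commute h y from (Subgroup.mem_centralizer_singleton_iff.mp hy).symm) k).eq

/-- The centraliser of a conjugate. -/
theorem cent_conj (g x : G) :
    Subgroup.centralizer {g * x * g⁻¹} = (Subgroup.centralizer {x}).map (MulAut.conj g).toMonoidHom := by
  ext y
  obtain ⟨y, rfl⟩ := (MulAut.conj g).surjective y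
  rw [show (MulAut.conj g) y = (MulAut.conj g).toMonoidHom y from rfl,
    Subgroup.mem_map_iff_mem (f := (MulAut.conj g).toMonoidHom) (MulAut.conj g).injective,
    Subgroup.mem_centralizer_singleton_iff, Subgroup.mem_centralizer_singleton_iff]
  exact commute_conj_iff (g := g) (x := y) (y := x)

theorem mem_conj {A : Subgroup G} {g y : G} :
    y ∈ A.map (MulAut.conj g).toMonoidHom ↔ g⁻¹ * y * g ∈ A := by
  constructor
  · rintro ⟨x, hx, rfl⟩
    show g⁻¹ * (g * x * g⁻¹) * g ∈ A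
    rwa [show g⁻¹ * (g * x * g⁻¹) * g = x by group]
  · intro h
    exact ⟨_, h, show g * (g⁻¹ * y * g) * g⁻¹ = y by group⟩

theorem card_conj (A : Subgroup G) (g : G) : Nat.card (A.map (MulAut.conj g).toMonoidHom) = Nat.card A :=
  (Nat.card_congr (A.equivMapOfInjective _ (MulAut.conj g).injective).toEquiv).symm

theorem isCyclic_conj (A : Subgroup G) (g : G) [IsCyclic A] : IsCyclic (A.map (MulAut.conj g).toMonoidHom) :=
  isCyclic_of_surjective _ (A.equivMapOfInjective _ (MulAut.conj g).injective).surjective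

variable [Finite G]

/-- Counting the elements with a property that holds only in conjugates of a subgroup. -/
theorem ti_count_pred (A N : Subgroup G) (P : G → Prop) (hP : ∀ g z, P z → P (g * z * g⁻¹))
    (hN : ∀ n ∈ N, ∀ x ∈ A, n * x * n⁻¹ ∈ A)
    (hTI : ∀ g x, x ∈ A → P x → g * x * g⁻¹ ∈ A → g ∈ N) (hcov : ∀ z, P z → ∃ g : G, g * z * g⁻¹ ∈ A) :
    Nat.card {z : G // P z} * Nat.card N = Nat.card G * Nat.card {x : A // P x} := by
  let Z := {z : G // P z}
  choose c hc using fun z : Z => hcov z.1 z.2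
  let f : Z × N → G × {x : A // P x} := fun s =>
    (((s.2 : G) * c s.1)⁻¹, ⟨⟨(s.2 : G) * c s.1 * s.1.1 * ((s.2 : G) * c s.1)⁻¹, by
      rw [show (s.2 : G) * c s.1 * s.1.1 * ((s.2 : G) * c s.1)⁻¹ = s.2 * (c s.1 * s.1.1 * (c s.1)⁻¹) * (s.2 : G)⁻¹ by group]
      exact hN _ s.2.2 _ (hc s.1)⟩, hP _ _ s.1.2⟩)
  have hf : Function.Bijective f := by
    constructor
    · rintro ⟨z, n⟩ ⟨z', n'⟩ h
      simp only [f, Prod.mk.injEq, inv_inj, Subtype.mk.injEq] at h
      obtain ⟨h1, h2⟩ := h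
      rw [← h1, mul_left_inj, mul_right_inj] at h2
      obtain rfl : z = z' := Subtype.ext h2
      rw [mul_left_inj] at h1
      exact Prod.ext rfl (Subtype.ext h1)
    · rintro ⟨g, ⟨⟨x, hx⟩, hxP⟩⟩
      let z : Z := ⟨g * x * g⁻¹, hP _ _ hxP⟩
      have hmem : g⁻¹ * z.1 * g⁻¹⁻¹ ∈ A := by
        show g⁻¹ * (g * x * g⁻¹) * g⁻¹⁻¹ ∈ A
        rw [show g⁻¹ * (g * x * g⁻¹) * g⁻¹⁻¹ = x by group]; exact hx
      have hn : g⁻¹ * (c z)⁻¹ ∈ N := by
        refine hTI _ (c z * z.1 * (c z)⁻¹) (hc z) (hP _ _ z.2) ?_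
        rw [show g⁻¹ * (c z)⁻¹ * (c z * z.1 * (c z)⁻¹) * (g⁻¹ * (c z)⁻¹)⁻¹ = g⁻¹ * z.1 * g⁻¹⁻¹ by group]
        exact hmem
      refine ⟨(z, ⟨_, hn⟩), ?_⟩
      have e : g⁻¹ * (c z)⁻¹ * c z = g⁻¹ := by group
      refine Prod.ext ?_ (Subtype.ext (Subtype.ext ?_))
      · show (g⁻¹ * (c z)⁻¹ * c z)⁻¹ = g
        rw [e, inv_inv]
      · show g⁻¹ * (c z)⁻¹ * c z * (g * x * g⁻¹) * (g⁻¹ * (c z)⁻¹ * c z)⁻¹ = x
        rw [e]
        group
  rw [← Nat.card_prod, Nat.card_congr (Equiv.ofBijective f hf), Nat.card_prod]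

/-- The number of elements of a given order in a cyclic subgroup. -/
theorem card_cyclic_order {A : Subgroup G} [IsCyclic A] {i : ℕ} (hi : i ∣ Nat.card A) :
    Nat.card {x : A // orderOf (x : G) = i} = Nat.totient i := by
  classical
  haveI := Fintype.ofFinite A
  rw [Nat.card_congr (Equiv.subtypeEquivRight fun x : A => by rw [Subgroup.orderOf_coe]),
    Nat.card_eq_fintype_card, Fintype.card_subtype]
  exact IsCyclic.card_orderOf_eq_totient (by rwa [← Nat.card_eq_fintype_card])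

/-- An element of order twice an odd number, split in its two parts. -/
theorem card_two_mul {i : ℕ} (hi : Odd i) :
    Nat.card {z : G // orderOf z = 2 * i} =
      Nat.card {p : G × G // orderOf p.1 = 2 ∧ orderOf p.2 = i ∧ Commute p.1 p.2} := by
  obtain ⟨c, hc⟩ := hi
  have hodd : ∀ {t : G}, orderOf t = 2 → t ^ i = t := fun {t} ht => by
    have h2 : t ^ 2 = 1 := ht ▸ pow_orderOf_eq_one t
    rw [hc, pow_succ, pow_mul, h2, one_pow, one_mul]
  let f : {p : G × G // orderOf p.1 = 2 ∧ orderOf p.2 = i ∧ Commute p.1 p.2} → {z : G // orderOf z = 2 * i} :=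
    fun p => ⟨p.1.1 * p.1.2, by
      obtain ⟨h1, h2, h3⟩ := p.2
      rw [h3.orderOf_mul_eq_mul_orderOf_of_coprime, h1, h2]
      rw [h1, h2]
      exact Nat.coprime_two_left.mpr ⟨c, hc⟩⟩
  have key : ∀ p : {p : G × G // orderOf p.1 = 2 ∧ orderOf p.2 = i ∧ Commute p.1 p.2},
      (p.1.1 * p.1.2) ^ i = p.1.1 := by
    intro p
    obtain ⟨h1, h2, h3⟩ := p.2
    rw [h3.mul_pow, hodd h1, orderOf_dvd_iff_pow_eq_one.mp (dvd_of_eq h2), mul_one]
  refine (Nat.card_congr (Equiv.ofBijective f ⟨fun p p' h => ?_, fun z => ?_⟩)).symm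
  · have hv : p.1.1 * p.1.2 = p'.1.1 * p'.1.2 := congrArg Subtype.val h
    have h1 : p.1.1 = p'.1.1 := by rw [← key p, ← key p', hv]
    rw [h1] at hv
    exact Subtype.ext (Prod.ext h1 (mul_left_cancel hv))
  · obtain ⟨z, hz⟩ := z
    have hi1 : orderOf (z ^ i) = 2 := by
      have h := orderOf_pow_orderOf_div (x := z) (n := 2) (orderOf_pos z).ne' ⟨i, hz⟩
      rwa [hz, Nat.mul_div_cancel_left _ (by norm_num : 0 < 2)] at h
    have he : z ^ i * z ^ (i + 1) = z := by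
      rw [← pow_add, show i + (i + 1) = 2 * i + 1 by ring, ← hz, pow_succ, pow_orderOf_eq_one, one_mul]
    have hi2 : orderOf (z ^ (i + 1)) = i := by
      have hd : orderOf (z ^ (i + 1)) ∣ i := orderOf_dvd_of_pow_eq_one (by
        rw [← pow_mul, show (i + 1) * i = 2 * i * (c + 1) by rw [hc]; ring, ← hz, pow_mul, pow_orderOf_eq_one,
          one_pow])
      have hcm : Commute (z ^ i) (z ^ (i + 1)) := Commute.pow_pow (Commute.refl z) _ _
      have hm := hcm.orderOf_mul_eq_mul_orderOf_of_coprime (by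
        rw [hi1]
        exact Nat.coprime_two_left.mpr (Odd.of_dvd_nat ⟨c, hc⟩ hd))
      rw [he, hz, hi1] at hm
      omega
    exact ⟨⟨(z ^ i, z ^ (i + 1)), hi1, hi2, Commute.pow_pow (Commute.refl z) _ _⟩, Subtype.ext he⟩

/-- Pairs counted by their first component. -/
theorem card_pairs_fst (P Q : G → Prop) (C : G → G → Prop) {k : ℕ}
    (hk : ∀ t, P t → Nat.card {y : G // Q y ∧ C t y} = k) :
    Nat.card {p : G × G // P p.1 ∧ Q p.2 ∧ C p.1 p.2} = Nat.card {t : G // P t} * k := by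
  classical
  haveI := Fintype.ofFinite G
  rw [Nat.card_congr (α := {p : G × G // P p.1 ∧ Q p.2 ∧ C p.1 p.2}) (β := (t : {t : G // P t}) × {y : G // Q y ∧ C t.1 y})
    ⟨fun p => ⟨⟨p.1.1, p.2.1⟩, ⟨p.1.2, p.2.2⟩⟩, fun s => ⟨(s.1.1, s.2.1), s.1.2, s.2.2⟩, fun _ => rfl, fun _ => rfl⟩,
    Nat.card_sigma, Finset.sum_congr rfl (g := fun _ => k) (fun t _ => hk t.1 t.2), Finset.sum_const, smul_eq_mul,
    Finset.card_univ, ← Nat.card_eq_fintype_card]

/-- Pairs counted by their second component. -/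
theorem card_pairs_snd (P Q : G → Prop) (C : G → G → Prop) {k : ℕ}
    (hk : ∀ y, Q y → Nat.card {t : G // P t ∧ C t y} = k) :
    Nat.card {p : G × G // P p.1 ∧ Q p.2 ∧ C p.1 p.2} = Nat.card {y : G // Q y} * k := by
  rw [← card_pairs_fst Q P (fun y t => C t y) hk]
  exact Nat.card_congr ⟨fun p => ⟨(p.1.2, p.1.1), p.2.2.1, p.2.1, p.2.2.2⟩,
    fun p => ⟨(p.1.2, p.1.1), p.2.2.1, p.2.1, p.2.2.2⟩, fun _ => rfl, fun _ => rfl⟩

/-- A non-trivial finite solvable group has a non-trivial normal elementary abelian subgroup. -/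
theorem exists_elem_normal {H : Type*} [Group H] [Finite H] [Group.IsSolvable H] [Nontrivial H] :
    ∃ (r : ℕ) (E : Subgroup H), r.Prime ∧ E.Normal ∧ E ≠ ⊥ ∧ (∀ e ∈ E, e ^ r = 1) ∧
      ∀ x ∈ E, ∀ y ∈ E, Commute x y := by
  obtain ⟨M, hMn, -, hM0, hmin⟩ := CfsgLib.exists_minimal_normal (G := H) (N := ⊤) top_ne_bot
  have hlt : ⁅M, M⁆ < M := Group.IsSolvable.commutator_lt_of_ne_bot hM0
  have hb : ⁅M, M⁆ = ⊥ := (hmin _ inferInstance hlt.le).resolve_right hlt.ne
  have hc : ∀ x ∈ M, ∀ y ∈ M, Commute x y := fun x hx y hy => by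
    have h := Subgroup.commutator_mem_commutator hx hy
    rw [hb, Subgroup.mem_bot] at h
    exact commutatorElement_eq_one_iff_commute.mp h
  obtain ⟨r, hr, hrM⟩ := Nat.exists_prime_and_dvd (n := Nat.card M)
    (fun e => hM0 (Subgroup.eq_bot_of_card_eq M e))
  haveI := Fact.mk hr
  let E : Subgroup H :=
    { carrier := {x | x ∈ M ∧ x ^ r = 1}
      one_mem' := ⟨one_mem M, one_pow r⟩
      mul_mem' := fun {x y} hx hy => ⟨mul_mem hx.1 hy.1, by rw [(hc x hx.1 y hy.1).mul_pow, hx.2, hy.2, one_mul]⟩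
      inv_mem' := fun {x} hx => ⟨inv_mem hx.1, by rw [inv_pow, hx.2, inv_one]⟩ }
  refine ⟨r, E, hr, ⟨fun x hx g => ⟨hMn.conj_mem x hx.1 g, by rw [conj_pow, hx.2, mul_one, mul_inv_cancel]⟩⟩, ?_,
    fun e he => he.2, fun x hx y hy => hc x hx.1 y hy.1⟩
  intro h
  obtain ⟨⟨x, hx⟩, hxo⟩ := exists_prime_orderOf_dvd_card' (G := M) r hrM
  rw [Subgroup.orderOf_mk] at hxo
  have hmem : x ∈ E := ⟨hx, by rw [← hxo, pow_orderOf_eq_one]⟩
  rw [h, Subgroup.mem_bot] at hmem
  rw [hmem, orderOf_one] at hxo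
  exact hr.ne_one hxo.symm

/-- The same inside a subgroup. -/
theorem exists_elem_normal' {S : Subgroup G} (hS : Group.IsSolvable S) (hne : S ≠ ⊥) :
    ∃ (r : ℕ) (E : Subgroup G), r.Prime ∧ S ≤ Subgroup.normalizer (E : Set G) ∧ E ≠ ⊥ ∧ (∀ e ∈ E, e ^ r = 1) ∧
      ∀ x ∈ E, ∀ y ∈ E, Commute x y := by
  haveI := hS
  haveI : Nontrivial S := (Subgroup.nontrivial_iff_ne_bot S).mpr hne
  obtain ⟨r, E, hr, hn, h0, hexp, hc⟩ := exists_elem_normal (H := S)
  refine ⟨r, E.map S.subtype, hr, le_norm fun s hs x hx => ?_, ?_, ?_, ?_⟩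
  · obtain ⟨x, hx, rfl⟩ := hx
    exact ⟨_, hn.conj_mem x hx ⟨s, hs⟩, rfl⟩
  · rw [Ne, Subgroup.map_eq_bot_iff_of_injective _ S.subtype_injective]
    exact h0
  · rintro _ ⟨e, he, rfl⟩
    rw [← map_pow, hexp e he, map_one]
  · rintro _ ⟨x, hx, rfl⟩ _ ⟨y, hy, rfl⟩
    exact (hc x hx y hy).map S.subtype

end CfsgLib.ReeLocal
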