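import Mathlib
import Cfsg.Agent.Lib.ReeTori.Instance
import Cfsg.Agent.Lib.Chev.Twist.ReeAut
import Cfsg.Agent.Lib.Chev.Twist.SimpleG2

/-!
The least degree of a non-trivial irreducible representation of a small Ree group.

The eigenspaces of the elementary abelian subgroup of order `q²` of a Sylow 3-subgroup give `q(q-1)`;
equality is excluded because a Sylow 2-subgroup of order eight would then act as a multiple of its
regular representation.
-/

set_option autoImplicit false
set_option linter.unusedSectionVars false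
set_option linter.style.haveILetI false
set_option linter.deprecated false
set_option linter.unusedVariables false
set_option maxRecDepth 100000

namespace CfsgLib.ReeLocal

open Cfsg.Lie CfsgLib.Chev.T2G2

/-- A sum of character values over a finite group is its order times the dimension of the fixed space. -/
theorem sum_char {A V : Type*} [Group A] [Fintype A] [AddCommGroup V] [Module ℂ V] [FiniteDimensional ℂ V]
    (σ : Representation ℂ A V) :
    ∑ a, σ.character a = (Nat.card A : ℂ) * Module.finrank ℂ σ.invariants := by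
  have hne : (Nat.card A : ℂ) ≠ 0 := Nat.cast_ne_zero.mpr Nat.card_pos.ne'
  haveI := invertibleOfNonzero hne
  rw [← Representation.card_inv_mul_sum_char_eq_finrank σ, ← mul_assoc, mul_inv_cancel₀ hne, one_mul]

/-- A finite group with no fixed vectors sums to zero. -/
theorem sum_eq_zero {A V : Type*} [Group A] [Fintype A] [AddCommGroup V] [Module ℂ V] [FiniteDimensional ℂ V]
    (σ : Representation ℂ A V) (h : Module.finrank ℂ σ.invariants = 0) : ∑ a, σ a = 0 := by
  refine LinearMap.ext fun v => ?_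
  have hmem : (∑ a, σ a) v ∈ σ.invariants := by
    intro b
    simp only [LinearMap.coe_sum, Finset.sum_apply, map_sum]
    simp only [← Module.End.mul_apply, ← map_mul]
    exact Fintype.sum_equiv (Equiv.mulLeft b) _ _ fun a => rfl
  rw [Submodule.finrank_eq_zero.mp h, Submodule.mem_bot] at hmem
  rw [hmem, LinearMap.zero_apply]

variable {K : Type*} [Field K] [Fintype K] {m : ℕ}

set_option maxHeartbeats 1000000 in
theorem min_degree (hm : 1 ≤ m) (hK : Fintype.card K = 3 ^ (2 * m + 1)) {k : ℕ}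
    (ρ : Representation ℂ (RG K m) (Fin k → ℂ)) (hρ : ρ.IsIrreducible) (hk : 2 ≤ k) :
    Fintype.card K ^ 2 - Fintype.card K + 1 ≤ k := by
  classical
  haveI := charP_three hK
  haveI := Fact.mk Nat.prime_three
  haveI := Fact.mk Nat.prime_two
  haveI : Finite (RG K m) := Subgroup.instFiniteSubtypeMem _
  haveI : IsSimpleGroup (RG K m) := (simple hK hm).1
  have h3 : (3 : K) = 0 := hc3 hK
  obtain ⟨R⟩ := CfsgLib.ReeTori.exists_ree hm hK
  obtain ⟨j, hj, hj3, -⟩ := CfsgLib.ReeTori.arith R
  obtain ⟨q, hq⟩ : ∃ q, q = Fintype.card K := ⟨_, rfl⟩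
  rw [← hq] at hj ⊢
  have hqC : (q : ℂ) ≠ 0 := Nat.cast_ne_zero.mpr (by omega)
  have hdim : Module.finrank ℂ (Fin k → ℂ) = k := Module.finrank_fin_fun ℂ
  -- conjugation by the unipotent and toral elements
  have hz : ∀ a : K, (a ^ 3 ^ m) ^ 3 = 0 ↔ a = 0 := fun a => by simp
  have hsplit : ∀ a e f : K, wg hK (0 : K) e f * wg hK a 0 0 = wg hK a 0 0 * wg hK 0 e (f - a * e) := by
    intro a e f
    rw [wg_mul, wg_mul, (hz 0).mpr rfl]
    congr 1 <;> ring
  have hconj : ∀ a e f : K, ρ.character (wg hK 0 e f) = ρ.character (wg hK 0 e (f - a * e)) := fun a e f => by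
    rw [show wg hK (0 : K) e f = wg hK a 0 0 * wg hK 0 e (f - a * e) * (wg hK a 0 0)⁻¹ by
      rw [← hsplit, mul_inv_cancel_right], Representation.char_conj]
  have hE : ∀ e f : K, e ≠ 0 → ρ.character (wg hK 0 e f) = ρ.character (wg hK 0 e 0) := fun e f he => by
    rw [hconj (f / e) e f, div_mul_cancel₀ f he, sub_self]
  obtain ⟨c, hc⟩ : ∃ c, c = ρ.character (wg hK (0 : K) 0 1) := ⟨_, rfl⟩
  have hZ : ∀ f : K, f ≠ 0 → ρ.character (wg hK 0 0 f) = c := by
    intro f hf
    have h := tg_wg hK (Units.mk0 f hf) (0 : K) 0 1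
    rw [mul_zero, mul_zero, (kk_val (m := m)).2.2.2.2.2, _root_.zpow_one, Units.val_mk0, mul_one] at h
    rw [← h, Representation.char_conj, hc]
  have hone : ρ.character (wg hK (0 : K) 0 0) = k := by rw [wg_zero, Representation.char_one, hdim]
  -- the elementary abelian subgroup of order `q²` twisted by a character of the centre
  obtain ⟨ψ, hψ⟩ := AddChar.exists_apply_ne_zero.mpr (one_ne_zero : (1 : K) ≠ 0)
  have hψ0 : ψ ≠ 0 := fun e => hψ (by rw [e]; rfl)
  have hψs : ∑ f : K, ψ (-f) = 0 := by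
    rw [Fintype.sum_equiv (Equiv.neg K) (fun f => ψ (-f)) (fun f => ψ f) fun f => rfl]
    exact AddChar.sum_eq_zero_iff_ne_zero.mpr hψ0
  let φ : Multiplicative (K × K) →* RG K m := MonoidHom.mk' (fun x => wg hK 0 x.toAdd.1 x.toAdd.2) fun x y => by
    rw [wg_mul, (hz 0).mpr rfl, toAdd_mul, Prod.fst_add, Prod.snd_add]
    congr 1 <;> ring
  let σ : Representation ℂ (Multiplicative (K × K)) (Fin k → ℂ) :=
    { toFun := fun x => ψ (-x.toAdd.2) • ρ (φ x)
      map_one' := by simp
      map_mul' := fun x y => by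
        rw [smul_mul_smul_comm, ← AddChar.map_add_eq_mul, map_mul φ, map_mul ρ, toAdd_mul, Prod.snd_add, neg_add] }
  have hσ : ∀ x : K × K, σ.character (Multiplicative.ofAdd x) = ψ (-x.2) * ρ.character (wg hK 0 x.1 x.2) := fun x => by
    show LinearMap.trace ℂ _ (ψ (-x.2) • ρ (wg hK 0 x.1 x.2)) = _
    rw [map_smul, smul_eq_mul]
    rfl
  obtain ⟨n, hn⟩ : ∃ n : ℕ, (k : ℂ) - c = (q : ℂ) ^ 2 * n := by
    refine ⟨Module.finrank ℂ σ.invariants, ?_⟩
    have h := sum_char σ
    rw [show Nat.card (Multiplicative (K × K)) = q ^ 2 by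
      rw [Nat.card_congr Multiplicative.toAdd, Nat.card_prod, Nat.card_eq_fintype_card, hq, pow_two], Nat.cast_pow] at h
    rw [← h, ← Fintype.sum_equiv Multiplicative.ofAdd _ _ (fun x => (hσ x).symm), Fintype.sum_prod_type,
      Fintype.sum_eq_single (0 : K) fun e he => by
        simp only [hE e _ he, ← Finset.sum_mul, hψs, zero_mul]]
    have hrw : ∀ f : K, ψ (-f) * ρ.character (wg hK 0 0 f) = ψ (-f) * c + if f = 0 then (k : ℂ) - c else 0 := by
      intro f
      by_cases hf : f = 0
      · rw [if_pos hf, hf, hone, neg_zero, AddChar.map_zero_eq_one]; ring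
      · rw [if_neg hf, hZ f hf, add_zero]
    rw [Finset.sum_congr rfl fun f _ => hrw f, Finset.sum_add_distrib, ← Finset.sum_mul, hψs, zero_mul, zero_add,
      Finset.sum_ite_eq' Finset.univ (0 : K), if_pos (Finset.mem_univ _)]
  -- the centre
  let φ₀ : Multiplicative K →* RG K m := MonoidHom.mk' (fun x => wg hK 0 0 x.toAdd) fun x y => by
    rw [wg_mul, (hz 0).mpr rfl, toAdd_mul]
    congr 1 <;> ring
  let σ₀ : Representation ℂ (Multiplicative K) (Fin k → ℂ) := ρ.comp φ₀
  obtain ⟨d, hd⟩ : ∃ d, d = Module.finrank ℂ σ₀.invariants := ⟨_, rfl⟩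
  have hd' : (k : ℂ) + ((q : ℂ) - 1) * c = q * d := by
    have h := sum_char σ₀
    rw [show Nat.card (Multiplicative K) = q by rw [Nat.card_congr Multiplicative.toAdd, Nat.card_eq_fintype_card, hq],
      ← hd] at h
    rw [← h]
    have hrw : ∀ f : K, σ₀.character (Multiplicative.ofAdd f) = c + if f = 0 then (k : ℂ) - c else 0 := by
      intro f
      show ρ.character (wg hK 0 0 f) = _
      by_cases hf : f = 0
      · rw [if_pos hf, hf, hone]; ring
      · rw [if_neg hf, hZ f hf, add_zero]
    rw [← Fintype.sum_equiv Multiplicative.ofAdd _ _ (fun f => (hrw f).symm), Finset.sum_add_distrib, Finset.sum_const,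
      Finset.sum_ite_eq' Finset.univ (0 : K), if_pos (Finset.mem_univ _), Finset.card_univ, ← hq, nsmul_eq_mul]
    ring
  have hkey : k = d + (q - 1) * q * n := by
    have h : ((q : ℂ) * (k : ℂ)) = q * ((d : ℂ) + ((q : ℂ) - 1) * q * n) := by
      linear_combination hd' + ((q : ℂ) - 1) * hn
    have h' := mul_left_cancel₀ hqC h
    rw [← Nat.cast_inj (R := ℂ), h']
    push_cast [Nat.cast_sub (show 1 ≤ q by omega)]
    ring
  -- the representation is faithful
  have hn0 : n ≠ 0 := by
    intro e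
    rw [e, mul_zero, add_zero] at hkey
    have htop : σ₀.invariants = ⊤ := Submodule.eq_top_of_finrank_eq (by rw [← hd, hdim, hkey])
    have hz1 : ρ (wg hK (0 : K) 0 1) = 1 := by
      refine LinearMap.ext fun v => ?_
      exact (htop ▸ Submodule.mem_top : v ∈ σ₀.invariants) (Multiplicative.ofAdd 1)
    have hker : MonoidHom.ker ρ = ⊤ := (MonoidHom.normal_ker ρ).eq_bot_or_eq_top.resolve_left fun hb => by
      have h1 : wg hK (0 : K) 0 1 ∈ MonoidHom.ker ρ := hz1
      rw [hb, Subgroup.mem_bot, ← wg_zero hK] at h1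
      exact one_ne_zero (wg_inj hK h1).2.2
    have htriv : ∀ g, ρ g = 1 := fun g => (hker ▸ Subgroup.mem_top g : g ∈ MonoidHom.ker ρ)
    haveI : IsSimpleOrder (Subrepresentation ρ) := hρ
    obtain ⟨v, hv⟩ : ∃ v : Fin k → ℂ, v ≠ 0 := by
      haveI : Nontrivial (Fin k → ℂ) := Module.nontrivial_of_finrank_pos (R := ℂ) (by omega)
      exact exists_ne 0
    let W : Subrepresentation ρ := ⟨Submodule.span ℂ {v}, fun g w hw => by rw [htriv g]; exact hw⟩
    rcases IsSimpleOrder.eq_bot_or_eq_top W with h | h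
    · have h1 : Submodule.span ℂ {v} = ⊥ := congrArg Subrepresentation.toSubmodule h
      exact hv ((Submodule.span_singleton_eq_bot).mp h1)
    · have h1 : Submodule.span ℂ {v} = ⊤ := congrArg Subrepresentation.toSubmodule h
      have h2 := finrank_span_singleton (K := ℂ) hv
      rw [h1, finrank_top, hdim] at h2
      omega
  have hqq : q ^ 2 - q = (q - 1) * q := by rw [Nat.sub_mul, one_mul, pow_two]
  rw [hqq]
  by_contra hlt
  have hle : (q - 1) * q ≤ (q - 1) * q * n := Nat.le_mul_of_pos_right _ (Nat.pos_of_ne_zero hn0)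
  have hd0 : d = 0 := by omega
  have hkq : k = (q - 1) * q := by omega
  -- all involutions have trace zero
  have hsum := sum_eq_zero σ₀ (hd ▸ hd0)
  obtain ⟨t, ht⟩ : ∃ t, t = tg hK (-1 : Kˣ) := ⟨_, rfl⟩
  have ht2 : t * t = 1 := by
    rw [ht]
    refine Subtype.ext ?_
    show th m (-1 : Kˣ) * th m (-1 : Kˣ) = 1
    rw [← th_mul, neg_mul_neg, one_mul, th_one]
  have ht1 : t ≠ 1 := fun e => by
    have h := tg_neg hK (0 : K) 0 1
    rw [← ht, e, one_mul, inv_one, mul_one] at h
    exact one_ne_zero (eq_zero_of_neg hK (wg_inj hK h).2.2.symm)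
  have htz : ∀ f : K, ρ.character (t * wg hK 0 0 f) = ρ.character t := by
    intro f
    have h := tg_neg hK (0 : K) 0 (-f)
    rw [← ht, neg_zero, neg_neg] at h
    have hm : t * wg hK 0 0 f = wg hK 0 0 f * t * (wg hK 0 0 f)⁻¹ := by
      rw [eq_mul_inv_iff_mul_eq, mul_assoc, wg_mul, (hz 0).mpr rfl]
      have e : wg hK (0 : K) 0 f * t = t * wg hK 0 0 (-f) := by
        rw [← h, inv_mul_cancel_right]
      rw [e]
      congr 2 <;> first | ring1 | linear_combination f * h3
    rw [hm, Representation.char_conj]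
  have htr : ρ.character t = 0 := by
    have h1 : ∑ f : K, ρ.character (t * wg hK 0 0 f) = 0 := by
      simp only [Representation.character, map_mul, ← _root_.map_sum, ← Finset.mul_sum]
      have h2 : ∑ f : K, ρ (wg hK 0 0 f) = 0 :=
        (Fintype.sum_equiv Multiplicative.ofAdd _ (fun a => σ₀ a) fun f => rfl).trans hsum
      rw [h2, mul_zero, map_zero]
    rw [Finset.sum_congr rfl fun f _ => htz f, Finset.sum_const, Finset.card_univ, ← hq, nsmul_eq_mul] at h1
    exact (mul_eq_zero.mp h1).resolve_left hqC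
  have hinv : ∀ s : RG K m, s ≠ 1 → s * s = 1 → ρ.character s = 0 := by
    intro s hs1 hs
    obtain ⟨g, hg⟩ := CfsgLib.ReeTori.invol_conj_a R hs1 hs
    obtain ⟨g', hg'⟩ := CfsgLib.ReeTori.invol_conj_a R ht1 ht2
    rw [← Representation.char_conj ρ s g, hg, ← hg', Representation.char_conj, htr]
  -- a Sylow 2-subgroup
  obtain ⟨S⟩ : Nonempty (Sylow 2 (RG K m)) := inferInstance
  haveI := Fintype.ofFinite (S : Subgroup (RG K m))
  let σ₂ : Representation ℂ (S : Subgroup (RG K m)) (Fin k → ℂ) := ρ.comp (S : Subgroup (RG K m)).subtype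
  have h2 := sum_char σ₂
  rw [show Nat.card (S : Subgroup (RG K m)) = 8 from (R.syl S).1, Fintype.sum_eq_single (f := σ₂.character) (1 : (S : Subgroup (RG K m))) fun s hs =>
    hinv _ (fun e => hs (Subtype.ext e)) ((R.syl S).2 _ s.2),
    Representation.char_one, hdim] at h2
  have h8 : k = 8 * Module.finrank ℂ σ₂.invariants := by exact_mod_cast h2
  have hmod : (q - 1) * q % 8 = 6 := by
    rw [Nat.mul_mod, show (q - 1) % 8 = 2 by omega, show q % 8 = 3 by omega]
  rw [← hkq, h8, Nat.mul_mod_right] at hmod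
  omega

end CfsgLib.ReeLocal
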