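import Cfsg.Agent.Lib.ReeTori.Instance
import Cfsg.Agent.Lib.ReeSylowCyclic
import Cfsg.Agent.Lib.StSL.Small

/-!
The Schur multiplier of a small Ree group: stem extensions are trivial.

For the prime 2 a Sylow subgroup is elementary of order 8 with an element of order 7 in its normaliser; for
primes above 3 the Sylow subgroups are cyclic; for the prime 3 the product of all conjugates under the torus
kills the derived group of the preimage of a Sylow subgroup, by weight considerations.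
-/

set_option autoImplicit false
set_option linter.unusedSectionVars false
set_option linter.deprecated false
set_option maxHeartbeats 1000000

namespace CfsgLib.ReeLocal.Multiplier

open CfsgLib.ReeTori CfsgLib.Chev.T2G2
open scoped commutatorElement

section Generic

variable {E G : Type*} [Group E] [Group G] {σ : E →* G}

theorem comm_mul_left (a b c : E) : ⁅a * b, c⁆ = a * ⁅b, c⁆ * a⁻¹ * ⁅a, c⁆ := by
  simp only [commutatorElement_def]; group

theorem comm_mul_right (a b c : E) : ⁅a, b * c⁆ = ⁅a, b⁆ * (b * ⁅a, c⁆ * b⁻¹) := by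
  simp only [commutatorElement_def]; group

theorem conj_commutator (d a b : E) : d * ⁅a, b⁆ * d⁻¹ = ⁅d * a * d⁻¹, d * b * d⁻¹⁆ := by
  simp only [commutatorElement_def]; group

variable (hcen : σ.ker ≤ Subgroup.center E)
include hcen

theorem comm_central {x y : E} (h : Commute (σ x) (σ y)) (g : E) : g * ⁅x, y⁆ = ⁅x, y⁆ * g := by
  refine Subgroup.mem_center_iff.mp (hcen ?_) g
  rw [MonoidHom.mem_ker, map_commutatorElement, commutatorElement_eq_one_iff_commute]
  exact h

theorem comm_left_add {x x' y : E} (h : Commute (σ x') (σ y)) : ⁅x * x', y⁆ = ⁅x', y⁆ * ⁅x, y⁆ := by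
  rw [comm_mul_left, comm_central hcen h x, mul_inv_cancel_right]

theorem comm_right_add {x y y' : E} (h : Commute (σ x) (σ y')) : ⁅x, y * y'⁆ = ⁅x, y⁆ * ⁅x, y'⁆ := by
  rw [comm_mul_right, comm_central hcen h y, mul_inv_cancel_right]

/-- The commutator of lifts of commuting elements is unchanged by conjugation. -/
theorem comm_invariant {d x y x' y' : E} (h : Commute (σ x) (σ y)) (hx : σ x' = σ (d * x * d⁻¹))
    (hy : σ y' = σ (d * y * d⁻¹)) : ⁅x', y'⁆ = ⁅x, y⁆ := by
  rw [CfsgLib.StSL.comm_congr hcen hx hy, ← conj_commutator, comm_central hcen h, mul_inv_cancel_right]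

/-- If an element of order seven permutes freely the involutions of an elementary subgroup of order eight, lifts
of the elements of this subgroup commute. -/
theorem comm_seven (hsurj : Function.Surjective σ) (S : Subgroup G) (hS : Nat.card S = 8)
    (hsq : ∀ s ∈ S, s * s = 1) (g : G) (hg7 : g ^ 7 = 1) (hgS : ∀ s ∈ S, g * s * g⁻¹ ∈ S)
    (hfree : ∀ s ∈ S, g * s * g⁻¹ = s → s = 1) {a b : E} (ha : σ a ∈ S) (hb : σ b ∈ S) : ⁅a, b⁆ = 1 := by
  classical
  haveI : Finite S := Nat.finite_of_card_ne_zero (by omega)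
  haveI := Fintype.ofFinite S
  obtain ⟨L, hL⟩ : ∃ L : G → E, ∀ y, σ (L y) = y := hsurj.hasRightInverse
  have hcm : ∀ {s t : G}, s ∈ S → t ∈ S → Commute s t := fun {s t} hs ht => by
    have hst := hsq _ (mul_mem hs ht)
    calc s * t = (s * t)⁻¹ := (inv_eq_of_mul_eq_one_left hst).symm
      _ = t * s := by rw [mul_inv_rev, inv_eq_of_mul_eq_one_left (hsq t ht), inv_eq_of_mul_eq_one_left (hsq s hs)]
  let β : G → G → E := fun s t => ⁅L s, L t⁆
  have hl : ∀ s s' t, s ∈ S → s' ∈ S → t ∈ S → β (s * s') t = β s' t * β s t := fun s s' t hs hs' ht => by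
    show ⁅L (s * s'), L t⁆ = _
    rw [CfsgLib.StSL.comm_congr hcen (a' := L s * L s') (b' := L t) (by rw [map_mul, hL, hL, hL]) rfl,
      comm_left_add hcen (by rw [hL, hL]; exact hcm hs' ht)]
  have hβ1 : ∀ t, β 1 t = 1 := fun t => by
    show ⁅L 1, L t⁆ = 1
    rw [CfsgLib.StSL.comm_congr hcen (a' := 1) (b' := L t) (by rw [hL, map_one]) rfl, commutatorElement_one_left]
  have hβ2 : ∀ s t, s ∈ S → t ∈ S → β s t * β s t = 1 := fun s t hs ht => by
    rw [← hl s s t hs hs ht, hsq s hs, hβ1]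
  have hsym : ∀ s t, s ∈ S → t ∈ S → β t s = β s t := fun s t hs ht => by
    rw [← inv_eq_of_mul_eq_one_left (hβ2 s t hs ht)]
    exact (commutatorElement_inv _ _).symm
  let x : ℕ → G → G := fun i s => g ^ i * s * (g ^ i)⁻¹
  have hxS : ∀ i, ∀ s ∈ S, x i s ∈ S := fun i => by
    induction i with
    | zero => intro s hs; simpa [x] using hs
    | succ i ih =>
      intro s hs
      have := hgS _ (ih s hs)
      show g ^ (i + 1) * s * (g ^ (i + 1))⁻¹ ∈ S
      rwa [show g ^ (i + 1) * s * (g ^ (i + 1))⁻¹ = g * (g ^ i * s * (g ^ i)⁻¹) * g⁻¹ by rw [pow_succ']; group]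
  have hinv : ∀ i s t, s ∈ S → t ∈ S → β (x i s) (x i t) = β s t := fun i s t hs ht => by
    refine comm_invariant hcen (d := L (g ^ i)) (by rw [hL, hL]; exact hcm hs ht) ?_ ?_ <;>
      simp only [map_mul, map_inv, hL, x]
  have hxx : ∀ i j s, x i (x j s) = x (i + j) s := fun i j s => by
    show g ^ i * (g ^ j * s * (g ^ j)⁻¹) * (g ^ i)⁻¹ = g ^ (i + j) * s * (g ^ (i + j))⁻¹
    rw [pow_add]; group
  have hx7 : ∀ s, x 7 s = s := fun s => by simp [x, hg7]
  -- it suffices to treat a fixed nonidentity element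
  suffices key : ∀ s, s ∈ S → s ≠ 1 → ∀ i, i < 7 → β s (x i s) = 1 by
    obtain ⟨s, t, rfl, rfl⟩ : ∃ s t, σ a = s ∧ σ b = t := ⟨_, _, rfl, rfl⟩
    rw [CfsgLib.StSL.comm_congr hcen (hL (σ a)).symm (hL (σ b)).symm]
    by_cases h1 : σ a = 1
    · rw [h1]; exact hβ1 _
    by_cases h2 : σ b = 1
    · show β (σ a) (σ b) = 1
      rw [h2, hsym _ _ (one_mem S) ha]; exact hβ1 _
    let O : Fin 7 → {u : S // u ≠ 1} := fun i => ⟨⟨x i (σ a), hxS i _ ha⟩, fun e => h1 (by
      have e' : g ^ (i : ℕ) * σ a * (g ^ (i : ℕ))⁻¹ = 1 := congrArg Subtype.val e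
      rwa [mul_inv_eq_one, mul_eq_left] at e')⟩
    have hOinj : Function.Injective O := by
      intro i j e
      by_contra hne
      have e' : x i (σ a) = x j (σ a) := congrArg (fun u => ((u : S) : G)) (congrArg Subtype.val e)
      -- some power of g prime to 7 fixes σ a, hence g does
      have e2 : x ((j : ℕ) + 7 - i) (σ a) = σ a := by
        have h := congrArg (x (7 - i)) e'
        rw [hxx, hxx, show 7 - (i : ℕ) + i = 7 by omega, hx7] at h
        rw [show (j : ℕ) + 7 - i = 7 - i + j by omega]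
        exact h.symm
      have hper : ∀ d, x d (σ a) = σ a → ∀ c, x (c * d) (σ a) = σ a := fun d hd c => by
        induction c with
        | zero => simp [x]
        | succ c ih => rw [Nat.succ_mul, ← hxx, hd, ih]
      have hmod : ∀ n, x n (σ a) = x (n % 7) (σ a) := fun n => by
        conv_lhs => rw [← Nat.mod_add_div n 7]
        rw [← hxx]
        congr 1
        have : g ^ (7 * (n / 7)) = 1 := by rw [pow_mul, hg7, one_pow]
        simp [x, this]
      have hij : (i : ℕ) ≠ j := fun h => hne (Fin.ext h)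
      obtain ⟨c, hc⟩ : ∃ c < 7, c * (((j : ℕ) + 7 - i) % 7) % 7 = 1 := by
        have h1 := i.2
        have h2 := j.2
        have : ((j : ℕ) + 7 - i) % 7 ≠ 0 := by omega
        have h3 : ((j : ℕ) + 7 - i) % 7 < 7 := Nat.mod_lt _ (by norm_num)
        revert this h3
        generalize ((j : ℕ) + 7 - i) % 7 = d
        intro h4 h5
        interval_cases d <;> first | exact absurd rfl h4 | decide
      have h3 := hper _ (by rw [← hmod]; exact e2) c
      rw [hmod, hc.2] at h3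
      exact h1 (hfree _ ha (by simpa [x] using h3))
    have hOsurj : Function.Bijective O := by
      rw [Fintype.bijective_iff_injective_and_card]
      refine ⟨hOinj, ?_⟩
      rw [Fintype.card_fin, Fintype.card_subtype_compl, Fintype.card_subtype_eq, ← Nat.card_eq_fintype_card, hS]
    obtain ⟨i, hi⟩ := hOsurj.2 ⟨⟨σ b, hb⟩, fun e => h2 (congrArg Subtype.val e)⟩
    show β (σ a) (σ b) = 1
    rw [show σ b = x i (σ a) from (congrArg (fun u => ((u : S) : G)) (congrArg Subtype.val hi)).symm]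
    exact key _ ha h1 i i.2
  intro s hs hs1
  let u : ℕ → E := fun i => β s (x i s)
  have u7 : ∀ i, u (i + 7) = u i := fun i => by simp only [u, ← hxx, hx7]
  have hu2 : ∀ i, u i * u i = 1 := fun i => hβ2 _ _ hs (hxS i s hs)
  have usym : ∀ i, i ≤ 7 → u (7 - i) = u i := fun i hi => by
    show β s (x (7 - i) s) = β s (x i s)
    rw [← hinv i s (x (7 - i) s) hs (hxS _ s hs), hxx, show i + (7 - i) = 7 by omega, hx7,
      hsym _ _ hs (hxS i s hs)]
  have u0 : u 0 = 1 := by
    show β s (x 0 s) = 1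
    simp [x, β]
  -- the product of s and its first conjugate is a further conjugate
  have hp : s * x 1 s ∈ S := mul_mem hs (hxS 1 s hs)
  obtain ⟨k, hk7, hk⟩ : ∃ k < 7, x k s = s * x 1 s := by
    by_contra hno
    push Not at hno
    let O' : Option (Fin 7) → {v : S // v ≠ 1} := fun o => match o with
      | none => ⟨⟨s * x 1 s, hp⟩, fun e => by
          have e' : s * x 1 s = 1 := congrArg Subtype.val e
          have : x 1 s = s := by
            rw [← inv_eq_of_mul_eq_one_right e', inv_eq_of_mul_eq_one_left (hsq s hs)]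
          exact hs1 (hfree s hs (by simpa [x] using this))⟩
      | some i => ⟨⟨x i s, hxS i s hs⟩, fun e => hs1 (by
          have e' : g ^ (i : ℕ) * s * (g ^ (i : ℕ))⁻¹ = 1 := congrArg Subtype.val e
          rwa [mul_inv_eq_one, mul_eq_left] at e')⟩
    have hinj : Function.Injective O' := by
      have hfix : ∀ d, 0 < d → d < 7 → x d s ≠ s := by
        intro d hd0 hd7 e
        have hper : ∀ c, x (c * d) s = s := fun c => by
          induction c with
          | zero => simp [x]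
          | succ c ih => rw [Nat.succ_mul, ← hxx, e, ih]
        have h7 : ∀ c, x (7 * c + 1) s = x 1 s := fun c => by
          have : g ^ (7 * c) = 1 := by rw [pow_mul, hg7, one_pow]
          rw [add_comm, ← hxx]
          simp [x, this]
        obtain ⟨c, c', hcc⟩ : ∃ c c', c * d = 7 * c' + 1 := by
          interval_cases d
          exacts [⟨1, 0, rfl⟩, ⟨4, 1, rfl⟩, ⟨5, 2, rfl⟩, ⟨2, 1, rfl⟩, ⟨3, 2, rfl⟩, ⟨6, 5, rfl⟩]
        exact hs1 (hfree s hs (by simpa [x] using (h7 c').symm.trans (hcc ▸ hper c)))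
      rintro (_ | i) (_ | j) e
      · rfl
      · exact absurd (congrArg (fun v => ((v : S) : G)) (congrArg Subtype.val e)).symm (hno j j.2)
      · exact absurd (congrArg (fun v => ((v : S) : G)) (congrArg Subtype.val e)) (hno i i.2)
      · have e' : x i s = x j s := congrArg (fun v => ((v : S) : G)) (congrArg Subtype.val e)
        have h1 := i.2
        have h2 := j.2
        by_contra hne
        have hij : (i : ℕ) ≠ j := fun h => hne (by rw [Fin.ext h])
        rcases Nat.lt_or_gt_of_ne hij with hlt | hlt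
        · refine hfix ((j : ℕ) - i) (by omega) (by omega) ?_
          have h := congrArg (x (7 - i)) e'
          rw [hxx, hxx, show 7 - (i : ℕ) + i = 7 by omega, hx7,
            show 7 - (i : ℕ) + j = 7 + (j - i) by omega, ← hxx, hx7] at h
          exact h.symm
        · refine hfix ((i : ℕ) - j) (by omega) (by omega) ?_
          have h := congrArg (x (7 - j)) e'
          rw [hxx, hxx, show 7 - (j : ℕ) + j = 7 by omega, hx7,
            show 7 - (j : ℕ) + i = 7 + (i - j) by omega, ← hxx, hx7] at h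
          exact h
    have := Fintype.card_le_of_injective O' hinj
    rw [Fintype.card_option, Fintype.card_fin, Fintype.card_subtype_compl, Fintype.card_subtype_eq,
      ← Nat.card_eq_fintype_card, hS] at this
    omega
  have rel : ∀ i, i < 7 → u (i + 7 - k) = u (i + 6) * u i := by
    intro i hi
    show β s (x (i + 7 - k) s) = β s (x (i + 6) s) * β s (x i s)
    rw [← hinv k s (x (i + 7 - k) s) hs (hxS _ s hs), hxx, show k + (i + 7 - k) = i + 7 by omega, ← hxx, hx7,
      hk, hl s (x 1 s) _ hs (hxS 1 s hs) (hxS i s hs)]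
    congr 1
    rw [← hinv 1 s (x (i + 6) s) hs (hxS _ s hs), hxx, show 1 + (i + 6) = i + 7 by omega, ← hxx, hx7]
  have e4 : u 4 = u 3 := usym 3 (by norm_num)
  have e5 : u 5 = u 2 := usym 2 (by norm_num)
  have e6 : u 6 = u 1 := usym 1 (by norm_num)
  have r0 := rel 0 (by norm_num)
  have r1 := rel 1 (by norm_num)
  have r2 := rel 2 (by norm_num)
  have r3 := rel 3 (by norm_num)
  have r4 := rel 4 (by norm_num)
  have e7 : u 7 = 1 := (u7 0).trans u0
  have e8 : u 8 = u 1 := u7 1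
  have e9 : u 9 = u 2 := u7 2
  have e10 : u 10 = u 3 := u7 3
  have e11 : u 11 = u 3 := (u7 4).trans e4
  have h12 : u 1 = 1 ∧ u 2 = 1 ∧ u 3 = 1 := by
    interval_cases k <;>
      simp only [Nat.reduceAdd, Nat.reduceSub, u0, e4, e5, e6, e7, e8, e9, e10, e11, hu2, one_mul, mul_one] at r0 r1 r2 r3 r4
    · exact ⟨right_eq_mul.mp r2, right_eq_mul.mp r3, r4⟩
    · exact ⟨r1.symm, left_eq_mul.mp r2, r4⟩
    · rw [r4, mul_one] at r2
      rw [r4, ← r2, one_mul] at r3
      exact ⟨r2.symm, r4, r3.symm⟩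
    · have h2 := left_eq_mul.mp r2
      rw [h2, one_mul] at r3
      exact ⟨r4, h2, r3.symm⟩
    · have h1 := right_eq_mul.mp r2
      rw [h1] at r0
      rw [h1, r0, mul_one] at r3
      exact ⟨h1, r3.symm, r0⟩
    · exact ⟨r4, r0.trans r4, left_eq_mul.mp r3⟩
    · have h1 : u 1 = 1 := r1.symm.trans r4
      rw [h1, r4, one_mul] at r2
      exact ⟨h1, r4, r2⟩
  obtain ⟨v1, v2, v3⟩ := h12
  intro i hi
  show u i = 1
  interval_cases i
  exacts [u0, v1, v2, v3, e4.trans v3, e5.trans v2, e6.trans v1]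

end Generic

/-- An element of order seven fixing a nonidentity element of an elementary group of order eight centralises it. -/
theorem eq_one_of_seven_fix {G : Type*} [Group G] {S : Subgroup G} (hS : Nat.card S = 8) (hsq : ∀ s ∈ S, s * s = 1)
    {g : G} (hg7 : orderOf g = 7) (hgS : ∀ s ∈ S, g * s * g⁻¹ ∈ S) {s : G} (hs : s ∈ S) (hs1 : s ≠ 1)
    (hfix : g * s * g⁻¹ = s) : ∀ t ∈ S, g * t = t * g := by
  classical
  haveI : Finite S := Nat.finite_of_card_ne_zero (by omega)
  haveI := Fintype.ofFinite S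
  intro t ht
  let c : Equiv.Perm S := Equiv.ofBijective (fun u : S => (⟨g * u * g⁻¹, hgS u u.2⟩ : S))
    (Finite.injective_iff_bijective.mp fun u v e => Subtype.ext (by simpa using congrArg Subtype.val e))
  have hpow : ∀ n : ℕ, ∀ u : S, ((c ^ n) u : G) = g ^ n * u * (g ^ n)⁻¹ := fun n => by
    induction n with
    | zero => intro u; simp
    | succ n ih =>
      intro u
      rw [pow_succ', Equiv.Perm.mul_apply]
      show g * ((c ^ n) u : G) * g⁻¹ = _
      rw [ih, pow_succ']; group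
  have h7 : c ^ 7 = 1 := Equiv.ext fun u => Subtype.ext (by
    rw [hpow, ← hg7, pow_orderOf_eq_one]; simp)
  -- a permutation of order dividing seven fixing two of eight points fixes all
  have hone : c = 1 := by
    by_contra hne
    haveI := Fact.mk (show Nat.Prime 7 by norm_num)
    have hord : orderOf c = 7 := orderOf_eq_prime h7 hne
    obtain ⟨n, hn⟩ := Equiv.Perm.cycleType_prime_order (σ := c) (by rw [hord]; norm_num)
    have hs1' : (⟨s, hs⟩ : S) ∉ c.support := by
      rw [Equiv.Perm.mem_support, not_not]; exact Subtype.ext hfix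
    have hone' : (1 : S) ∉ c.support := by
      rw [Equiv.Perm.mem_support, not_not]; exact Subtype.ext (by show g * ((1 : S) : G) * g⁻¹ = _; simp)
    have hsum := Equiv.Perm.sum_cycleType c
    rw [hn, hord] at hsum
    simp only [Multiset.sum_replicate, smul_eq_mul] at hsum
    have hle : c.support.card ≤ 6 := by
      have hsub : c.support ⊆ (Finset.univ.erase (1 : S)).erase ⟨s, hs⟩ := fun u hu =>
        Finset.mem_erase.mpr ⟨fun e => hs1' (e ▸ hu), Finset.mem_erase.mpr ⟨fun e => hone' (e ▸ hu), Finset.mem_univ _⟩⟩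
      refine (Finset.card_le_card hsub).trans ?_
      rw [Finset.card_erase_of_mem (Finset.mem_erase.mpr ⟨fun e => hs1 (congrArg Subtype.val e), Finset.mem_univ _⟩),
        Finset.card_erase_of_mem (Finset.mem_univ _), Finset.card_univ, ← Nat.card_eq_fintype_card, hS]
    omega
  have h := congrArg (fun u : S => (u : G)) (Equiv.congr_fun hone ⟨t, ht⟩)
  exact mul_inv_eq_iff_eq_mul.mp (by simpa [c] using h)


section Biadd

variable {F : Type*} [Field F] {Γ : Type*} [Group Γ]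

/-- A biadditive map invariant under a scaling vanishes on the scaled elements when the inverse scaling is not
additive on them. -/
theorem biadd_on_range (β : F → F → Γ) (hl : ∀ x x' y, β (x + x') y = β x y * β x' y)
    (hr : ∀ x y y', β x (y + y') = β x y * β x y') (f g : Fˣ → F) (hg : ∀ r, g r ≠ 0)
    (hinv : ∀ r x y, β (f r * x) (g r * y) = β x y) {r₁ r₂ r₃ : Fˣ} (hsum : f r₁ + f r₂ = f r₃)
    (hd : (g r₁)⁻¹ + (g r₂)⁻¹ ≠ (g r₃)⁻¹) (r : Fˣ) (y : F) : β (f r) y = 1 := by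
  have key : ∀ r y, β (f r) y = β 1 (y * (g r)⁻¹) := fun r y => by
    have h := hinv r 1 (y * (g r)⁻¹)
    rwa [mul_one, mul_comm (g r), inv_mul_cancel_right₀ (hg r)] at h
  set d := (g r₁)⁻¹ + (g r₂)⁻¹ - (g r₃)⁻¹ with hdd
  have hd0 : d ≠ 0 := sub_ne_zero.mpr hd
  have lam : ∀ z, β 1 z = 1 := by
    intro z
    have h := hl (f r₁) (f r₂) (z * d⁻¹)
    rw [hsum, key, key, key, ← hr, ← mul_add,
      show (g r₁)⁻¹ + (g r₂)⁻¹ = (g r₃)⁻¹ + d by rw [hdd]; ring, mul_add, hr, inv_mul_cancel_right₀ hd0] at h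
    exact left_eq_mul.mp h
  rw [key, lam]

/-- The version for the identity scaling of the first argument. -/
theorem biadd_id (β : F → F → Γ) (hl : ∀ x x' y, β (x + x') y = β x y * β x' y)
    (hr : ∀ x y y', β x (y + y') = β x y * β x y') (g : Fˣ → F) (hg : ∀ r, g r ≠ 0)
    (hinv : ∀ (r : Fˣ) x y, β ((r : F) * x) (g r * y) = β x y) {r₁ r₂ r₃ : Fˣ}
    (hsum : (r₁ : F) + r₂ = r₃) (hd : (g r₁)⁻¹ + (g r₂)⁻¹ ≠ (g r₃)⁻¹) (x y : F) : β x y = 1 := by
  by_cases hx : x = 0
  · subst hx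
    have h := hl 0 0 y
    rw [add_zero] at h
    exact left_eq_mul.mp h
  · exact biadd_on_range β hl hr (fun r => (r : F)) g hg hinv hsum hd (Units.mk0 x hx) y

/-- In characteristic three an additive map invariant under negation is trivial. -/
theorem add_even_trivial (h3 : (3 : F) = 0) (ψ : F → Γ) (hadd : ∀ x y, ψ (x + y) = ψ x * ψ y)
    (hneg : ∀ x, ψ (-x) = ψ x) (x : F) : ψ x = 1 := by
  have h := hadd x x
  rw [show x + x = -x by linear_combination x * h3, hneg] at h
  exact left_eq_mul.mp h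

end Biadd

variable {K : Type*} [Field K] [Fintype K] {m : ℕ} (hK : Fintype.card K = 3 ^ (2 * m + 1))

include hK in
theorem units_zpow_six (r : Kˣ) :
    (((r ^ kk m (rx 6) : Kˣ) : K))⁻¹ = (r : K) ^ 3 ^ (m + 1) * ((r : K) ^ 2)⁻¹ := by
  obtain ⟨k6, -⟩ := kk_val (m := m)
  rw [k6, show -3 * ((3 ^ m : ℕ) : ℤ) + 2 = ((2 : ℕ) : ℤ) - ((3 ^ (m + 1) : ℕ) : ℤ) by push_cast; ring,
    _root_.zpow_sub, _root_.zpow_natCast, _root_.zpow_natCast, Units.val_mul, Units.val_inv_eq_inv_val,
    Units.val_pow_eq_pow_val, Units.val_pow_eq_pow_val, _root_.mul_inv_rev, inv_inv]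

include hK in
theorem zpow_ten_sq (r : Kˣ) : (r ^ (3 * 3 ^ m + 1)) ^ kk m (rx 10) = r ^ 2 := by
  obtain ⟨-, -, -, -, k10, -⟩ := kk_val (m := m)
  have hN := pow_units hK r
  rw [← _root_.zpow_natCast r (3 * 3 ^ m + 1), ← _root_.zpow_mul, k10]
  push_cast
  rw [show (3 * (3 : ℤ) ^ m + 1) * (3 * 3 ^ m - 1) = 2 + (3 * ((3 : ℤ) ^ m * 3 ^ m) - 1) * 3 by ring,
    _root_.zpow_add, _root_.zpow_mul]
  push_cast at hN
  rw [hN, _root_.one_zpow, mul_one]
  norm_cast

include hK in
theorem card_ge (hm : 1 ≤ m) : 27 ≤ Fintype.card K := by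
  rw [hK, show (27 : ℕ) = 3 ^ 3 by norm_num]
  exact Nat.pow_le_pow_right (by norm_num) (by omega)

include hK in
theorem exists_mixed (hm : 1 ≤ m) : ∃ x : K, x ≠ 0 ∧ 1 + x ≠ 0 ∧ 1 - x ≠ 0 ∧ x ^ 3 ^ (m + 1) ≠ x ^ 3 := by
  classical
  haveI := charP_three hK
  set N := 3 ^ (m + 1) with hN
  let P : Polynomial K := Polynomial.X * (1 + Polynomial.X) * (1 - Polynomial.X) *
    (Polynomial.X ^ N - Polynomial.X ^ 3)
  have hN3 : 9 ≤ N := le_trans (by norm_num) (Nat.pow_le_pow_right (n := 3) (by norm_num) (show 2 ≤ m + 1 by omega))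
  have hne : (Polynomial.X ^ N - Polynomial.X ^ 3 : Polynomial K) ≠ 0 := by
    intro h
    have := congrArg (fun p => Polynomial.coeff p 3) h
    simp [Polynomial.coeff_X_pow, show 3 ≠ N by omega] at this
  have hP : P ≠ 0 := by
    refine mul_ne_zero (mul_ne_zero (mul_ne_zero Polynomial.X_ne_zero ?_) ?_) hne <;>
      intro h <;> have h' := congrArg (Polynomial.eval (0 : K)) h <;>
      simp at h'
  have hdeg : P.natDegree < Fintype.card K := by
    have hbd : P.natDegree ≤ 3 + N := by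
      refine Polynomial.natDegree_mul_le.trans (add_le_add ?_ ?_)
      · compute_degree
      · refine (Polynomial.natDegree_sub_le _ _).trans ?_
        simp only [Polynomial.natDegree_X_pow]
        omega
    have h4 : 3 ^ (2 * m + 1) = N * 3 ^ m := by rw [hN, ← pow_add]; congr 1; omega
    have h8 : 3 ≤ 3 ^ m := le_trans (by norm_num) (Nat.pow_le_pow_right (n := 3) (by norm_num) hm)
    rw [hK, h4]
    nlinarith
  obtain ⟨x, hx⟩ : ∃ x, P.eval x ≠ 0 := by
    by_contra hn
    simp only [not_exists, not_not] at hn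
    exact hP (Polynomial.eq_zero_of_natDegree_lt_card_of_eval_eq_zero P
      (f := id) Function.injective_id hn hdeg)
  simp only [P, Polynomial.eval_mul, Polynomial.eval_add, Polynomial.eval_sub, Polynomial.eval_one,
    Polynomial.eval_X, Polynomial.eval_pow, mul_ne_zero_iff] at hx
  exact ⟨x, hx.1.1.1, hx.1.1.2, hx.1.2, sub_ne_zero.mp hx.2⟩

include hK in
theorem exists_square_bad (hm : 1 ≤ m) : ∃ a b : K, a ≠ 0 ∧ b ≠ 0 ∧ a ^ 2 + 1 = b ^ 2 ∧ (a ^ 2)⁻¹ + 1 ≠ (b ^ 2)⁻¹ := by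
  classical
  have h3 := hc3 hK
  let P : Polynomial K := Polynomial.X * (Polynomial.X ^ 2 - 1) * (Polynomial.X ^ 2 + 1) *
    ((Polynomial.X ^ 2 - Polynomial.X - 1) * (Polynomial.X ^ 2 + Polynomial.X - 1))
  have hP : P ≠ 0 := by
    refine mul_ne_zero (mul_ne_zero (mul_ne_zero Polynomial.X_ne_zero ?_) ?_) (mul_ne_zero ?_ ?_) <;>
      intro h <;> have h' := congrArg (Polynomial.eval (0 : K)) h <;>
      simp at h'
  have hdeg : P.natDegree < Fintype.card K := by
    have : P.natDegree ≤ 9 := by simp only [P]; compute_degree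
    have := card_ge hK hm
    omega
  obtain ⟨u, hu⟩ : ∃ x, P.eval x ≠ 0 := by
    by_contra hn
    simp only [not_exists, not_not] at hn
    exact hP (Polynomial.eq_zero_of_natDegree_lt_card_of_eval_eq_zero P
      (f := id) Function.injective_id hn hdeg)
  simp only [P, Polynomial.eval_mul, Polynomial.eval_add, Polynomial.eval_sub, Polynomial.eval_one,
    Polynomial.eval_X, Polynomial.eval_pow, mul_ne_zero_iff] at hu
  obtain ⟨⟨⟨u0, u1⟩, u2⟩, u3, u4⟩ := hu
  refine ⟨u - u⁻¹, u + u⁻¹, fun h => u1 ?_, fun h => u2 ?_, ?_, fun h => ?_⟩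
  · field_simp at h
    linear_combination h
  · field_simp at h
    linear_combination h
  · field_simp
    linear_combination -u ^ 2 * h3
  · have ha : u - u⁻¹ ≠ 0 := fun h => u1 (by field_simp at h; linear_combination h)
    have hb : u + u⁻¹ ≠ 0 := fun h => u2 (by field_simp at h; linear_combination h)
    have hab : (u + u⁻¹) ^ 2 = (u - u⁻¹) ^ 2 + 1 := by
      field_simp
      linear_combination u ^ 2 * h3
    rw [hab] at h
    set A := (u - u⁻¹) ^ 2 with hA
    have hA0 : A ≠ 0 := pow_ne_zero _ ha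
    have hA1 : A + 1 ≠ 0 := hab ▸ pow_ne_zero _ hb
    field_simp at h
    have hA2 : (A - 1) ^ 2 = 0 := by linear_combination h - A * h3
    have hA3 : (u - u⁻¹ - 1) * (u - u⁻¹ + 1) = 0 := by
      linear_combination sub_eq_zero.mp (pow_eq_zero_iff (two_ne_zero) |>.mp hA2)
    rcases mul_eq_zero.mp hA3 with h5 | h5
    · exact u3 (by field_simp at h5; linear_combination h5)
    · exact u4 (by field_simp at h5; linear_combination h5)

/-- The subgroup of the roots `3a+b` and `3a+2b`. -/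
noncomputable def BC : Subgroup (RG K m) where
  carrier := {g | ∃ e f, g = wg hK 0 e f}
  one_mem' := ⟨0, 0, (wg_zero hK).symm⟩
  mul_mem' := by
    rintro _ _ ⟨e, f, rfl⟩ ⟨e', f', rfl⟩
    exact ⟨e + e', f + f', by rw [wg_mul]; simp⟩
  inv_mem' := by
    rintro _ ⟨e, f, rfl⟩
    refine ⟨-e, -f, inv_eq_of_mul_eq_one_right ?_⟩
    rw [wg_mul]
    simpa using wg_zero hK

theorem wg_zero_mem (e f : K) : wg hK 0 e f ∈ BC hK := ⟨e, f, rfl⟩

/-- The centre of the Sylow subgroup. -/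
noncomputable def CC : Subgroup (RG K m) where
  carrier := {g | ∃ f, g = wg hK 0 0 f}
  one_mem' := ⟨0, (wg_zero hK).symm⟩
  mul_mem' := by
    rintro _ _ ⟨f, rfl⟩ ⟨f', rfl⟩
    exact ⟨f + f', by rw [wg_mul]; simp⟩
  inv_mem' := by
    rintro _ ⟨f, rfl⟩
    refine ⟨-f, inv_eq_of_mul_eq_one_right ?_⟩
    rw [wg_mul]
    simpa using wg_zero hK

theorem CC_le_BC : CC hK ≤ BC hK := by
  rintro _ ⟨f, rfl⟩
  exact ⟨0, f, rfl⟩

theorem BC_le_Us : BC hK ≤ Us K m := by
  rintro _ ⟨e, f, rfl⟩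
  exact wg_mem hK _ _ _

theorem commute_C (f a e f' : K) : Commute (wg hK 0 0 f) (wg hK a e f') := by
  show wg hK 0 0 f * wg hK a e f' = wg hK a e f' * wg hK 0 0 f
  rw [wg_mul, wg_mul]
  simp [add_comm]

theorem commute_BC (e f e' f' : K) : Commute (wg hK 0 e f) (wg hK 0 e' f') := by
  show wg hK 0 e f * wg hK 0 e' f' = wg hK 0 e' f' * wg hK 0 e f
  rw [wg_mul, wg_mul]
  simp [add_comm]

theorem conj_BC {x y : RG K m} (hx : x ∈ Us K m) (hy : y ∈ BC hK) : x * y * x⁻¹ ∈ BC hK ∧ ⁅x, y⁆ ∈ CC hK := by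
  obtain ⟨a, e, f, rfl⟩ := (mem_Us_iff hK).mp hx
  obtain ⟨e', f', rfl⟩ := hy
  have e1 : wg hK a e f * wg hK 0 e' f' = wg hK 0 e' (f' + a * e') * wg hK a e f := by
    rw [wg_mul, wg_mul]
    simp [add_comm]
    ring
  refine ⟨⟨e', f' + a * e', ?_⟩, ⟨a * e', ?_⟩⟩
  · rw [e1, mul_inv_cancel_right]
  · rw [commutatorElement_def, e1, mul_inv_cancel_right, mul_inv_eq_iff_eq_mul, wg_mul]
    simp [add_comm]

theorem tg_fix_BC (s : Kˣ) {y : RG K m} (hy : y ∈ BC hK) : tg hK s * y * (tg hK s)⁻¹ ∈ BC hK := by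
  obtain ⟨e, f, rfl⟩ := hy
  rw [tg_wg, mul_zero]
  exact wg_zero_mem hK _ _

section Lifts

variable {Γ : Type*} [Group Γ] {σ : Γ →* RG K m} (hsurj : Function.Surjective σ)
  (hcen : σ.ker ≤ Subgroup.center Γ) (hm : 1 ≤ m)

include hK hsurj hcen hm

/-- The preimage of `BC` is abelian and the preimage of the centre is central in that of the Sylow subgroup. -/
theorem commute_layers {x y : Γ} :
    (σ x ∈ BC hK → σ y ∈ BC hK → Commute x y) ∧ (σ x ∈ CC hK → σ y ∈ Us K m → Commute x y) := by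
  classical
  have h3 := hc3 hK
  obtain ⟨-, -, -, -, k10, k11⟩ := kk_val (m := m)
  obtain ⟨L, hL⟩ : ∃ L : RG K m → Γ, ∀ g, σ (L g) = g := hsurj.hasRightInverse
  let B : K → RG K m := fun e => wg hK 0 e 0
  let C : K → RG K m := fun f => wg hK 0 0 f
  have hB : ∀ e e', B (e + e') = B e * B e' := fun e e' => by simp [B, wg_mul]
  have hC : ∀ f f', C (f + f') = C f * C f' := fun f f' => by simp [C, wg_mul]
  -- biadditivity
  have bl : ∀ (p p' : K → RG K m), (∀ x x', p (x + x') = p x * p x') → (∀ x y, Commute (p x) (p' y)) →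
      ∀ x x' z, ⁅L (p (x + x')), L (p' z)⁆ = ⁅L (p x), L (p' z)⁆ * ⁅L (p x'), L (p' z)⁆ := by
    intro p p' hp hc x x' z
    rw [add_comm x x', CfsgLib.StSL.comm_congr hcen (a' := L (p x') * L (p x)) (b' := L (p' z))
      (by rw [map_mul, hL, hL, hL, hp]) rfl, comm_left_add hcen (by rw [hL, hL]; exact hc _ _)]
  have br : ∀ (p p' : K → RG K m), (∀ x x', p' (x + x') = p' x * p' x') → (∀ x y, Commute (p x) (p' y)) →
      ∀ x z z', ⁅L (p x), L (p' (z + z'))⁆ = ⁅L (p x), L (p' z)⁆ * ⁅L (p x), L (p' z')⁆ := by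
    intro p p' hp hc x z z'
    rw [CfsgLib.StSL.comm_congr hcen (a' := L (p x)) (b' := L (p' z) * L (p' z'))
      rfl (by rw [map_mul, hL, hL, hL, hp]), comm_right_add hcen (by rw [hL, hL]; exact hc _ _)]
  have inv_comm : ∀ (s : Kˣ) a e f a' e' f', Commute (wg hK a e f) (wg hK a' e' f') →
      ⁅L (wg hK (((s ^ kk m (rx 6) : Kˣ) : K) * a) (((s ^ kk m (rx 10) : Kˣ) : K) * e)
          (((s ^ kk m (rx 11) : Kˣ) : K) * f)),
        L (wg hK (((s ^ kk m (rx 6) : Kˣ) : K) * a') (((s ^ kk m (rx 10) : Kˣ) : K) * e')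
          (((s ^ kk m (rx 11) : Kˣ) : K) * f'))⁆ = ⁅L (wg hK a e f), L (wg hK a' e' f')⁆ := by
    intro s a e f a' e' f' hc
    refine comm_invariant hcen (d := L (tg hK s)) (by rw [hL, hL]; exact hc) ?_ ?_ <;>
      rw [map_mul, map_mul, map_inv, hL, hL, hL, tg_wg]
  have cCC : ∀ f f', ⁅L (C f), L (C f')⁆ = 1 := by
    obtain ⟨x, x0, x1, x2, -⟩ := exists_mixed hK hm
    refine biadd_id (fun f f' => ⁅L (C f), L (C f')⁆) (bl C C hC fun _ _ => commute_C hK _ _ _ _)
      (br C C hC fun _ _ => commute_C hK _ _ _ _) (fun r : Kˣ => (r : K)) (fun r => r.ne_zero) ?_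
      (r₁ := 1) (r₂ := Units.mk0 x x0) (r₃ := Units.mk0 (1 + x) x1) ?_ ?_
    · intro r f f'
      have := inv_comm r 0 0 f 0 0 f' (commute_C hK _ _ _ _)
      simpa [C, k11] using this
    · simp
    · simp only [Units.val_one, inv_one, Units.val_mk0]
      intro h
      field_simp at h
      have : (1 - x) ^ 2 = 0 := by linear_combination h - x * h3
      exact x2 (pow_eq_zero_iff two_ne_zero |>.mp this)
  have cBC : ∀ e f, ⁅L (B e), L (C f)⁆ = 1 := fun e => by
    refine add_even_trivial h3 (fun f => ⁅L (B e), L (C f)⁆)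
      (br B C hC (fun _ _ => (commute_C hK _ _ _ _).symm) e) fun f => ?_
    have ho := three_pow_odd (m := m)
    have h := inv_comm (-1) 0 e 0 0 0 f (commute_C hK _ _ _ _).symm
    rw [k10, k11, Even.neg_one_zpow (((by decide : Odd (3 : ℤ)).mul ho).sub_odd odd_one)] at h
    simpa [B, C] using h
  have cBB : ∀ e e', ⁅L (B e), L (B e')⁆ = 1 := by
    obtain ⟨a, b, a0, b0, hab, hbad⟩ := exists_square_bad hK hm
    have hsq : ∀ (r : Kˣ) y, ⁅L (B ((r : K) ^ 2)), L (B y)⁆ = 1 := by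
      refine biadd_on_range (fun e e' => ⁅L (B e), L (B e')⁆) (bl B B hB fun _ _ => commute_BC hK _ _ _ _)
        (br B B hB fun _ _ => commute_BC hK _ _ _ _) (fun r : Kˣ => (r : K) ^ 2) (fun r : Kˣ => (r : K) ^ 2)
        (fun r => pow_ne_zero _ r.ne_zero) ?_
        (r₁ := Units.mk0 a a0) (r₂ := 1) (r₃ := Units.mk0 b b0) ?_ ?_
      · intro r e e'
        have := inv_comm (r ^ (3 * 3 ^ m + 1)) 0 e 0 0 e' 0 (commute_BC hK _ _ _ _)
        rw [zpow_ten_sq hK r] at this
        simpa [B] using this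
      · simpa using hab
      · simpa using hbad
    intro e e'
    let ψ : K → Γ := fun e => ⁅L (B e), L (B e')⁆
    have hadd : ∀ x y, ψ (x + y) = ψ x * ψ y :=
      fun x y => bl B B hB (fun _ _ => commute_BC hK _ _ _ _) x y e'
    have hψ2 : ∀ x, ψ (x ^ 2) = 1 := fun x => by
      by_cases hx : x = 0
      · subst hx
        have h := hadd 0 0
        rw [add_zero] at h
        simpa using left_eq_mul.mp h
      · exact hsq (Units.mk0 x hx) e'
    show ψ e = 1
    have h1 : ∀ x, ψ (-x) = 1 := fun x => by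
      have h := hψ2 (x + 1)
      rw [show (x + 1) ^ 2 = x ^ 2 + 1 ^ 2 + -x by linear_combination x * h3, hadd, hadd, hψ2, hψ2,
        one_mul, one_mul] at h
      exact h
    simpa using h1 (-e)
  have hBC : ∀ e f e' f', ⁅L (wg hK 0 e f), L (wg hK 0 e' f')⁆ = 1 := by
    intro e f e' f'
    have hsplit : ∀ e f, σ (L (wg hK 0 e f)) = σ (L (B e) * L (C f)) := fun e f => by
      rw [map_mul, hL, hL, hL]
      simp [B, C, wg_mul]
    rw [CfsgLib.StSL.comm_congr hcen (hsplit e f) (hsplit e' f'),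
      comm_left_add hcen (by rw [map_mul, hL, hL, hL]; exact (commute_BC hK _ _ _ _).mul_right (commute_BC hK _ _ _ _)),
      comm_right_add hcen (by rw [hL, hL]; exact commute_BC hK _ _ _ _),
      comm_right_add hcen (by rw [hL, hL]; exact commute_BC hK _ _ _ _), cCC, cBB, cBC,
      show ⁅L (C f), L (B e')⁆ = 1 by rw [← commutatorElement_inv, cBC, inv_one]]
    simp
  refine ⟨fun hx hy => ?_, fun hx hy => ?_⟩
  · obtain ⟨e, f, hxe⟩ := hx
    obtain ⟨e', f', hye⟩ := hy
    rw [← commutatorElement_eq_one_iff_commute,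
      CfsgLib.StSL.comm_congr hcen (a' := L (wg hK 0 e f)) (b' := L (wg hK 0 e' f')) (by rw [hL]; exact hxe)
        (by rw [hL]; exact hye)]
    exact hBC e f e' f'
  · obtain ⟨f, hxf⟩ := hx
    obtain ⟨a, e, f', hye⟩ := (mem_Us_iff hK).mp hy
    have cCA : ∀ f a, ⁅L (C f), L (wg hK a 0 0)⁆ = 1 := by
      obtain ⟨x, x0, x1, x2, x3⟩ := exists_mixed hK hm
      refine biadd_id (fun f a => ⁅L (C f), L (wg hK a 0 0)⁆)
        (bl C (fun a => wg hK a 0 0) hC fun _ _ => commute_C hK _ _ _ _) ?_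
        (fun r : Kˣ => ((r ^ kk m (rx 6) : Kˣ) : K)) (fun r => Units.ne_zero _) ?_
        (r₁ := 1) (r₂ := Units.mk0 x x0) (r₃ := Units.mk0 (1 + x) x1) ?_ ?_
      · intro f a a'
        show ⁅L (C f), L (wg hK (a + a') 0 0)⁆ = ⁅L (C f), L (wg hK a 0 0)⁆ * ⁅L (C f), L (wg hK a' 0 0)⁆
        have e1 : wg hK a 0 0 * wg hK a' 0 0 =
            wg hK (a + a') 0 0 * wg hK 0 (a' * (a ^ 3 ^ m) ^ 3) (a' ^ 2 * (a ^ 3 ^ m) ^ 3) := by
          rw [wg_mul, wg_mul]
          simp
        have h := CfsgLib.StSL.comm_congr hcen (a := L (C f)) (a' := L (C f))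
          (b := L (wg hK a 0 0) * L (wg hK a' 0 0))
          (b' := L (wg hK (a + a') 0 0) * L (wg hK 0 (a' * (a ^ 3 ^ m) ^ 3) (a' ^ 2 * (a ^ 3 ^ m) ^ 3))) rfl
          (by rw [map_mul, map_mul, hL, hL, hL, hL, e1])
        rw [comm_right_add hcen (by rw [hL, hL]; exact commute_C hK _ _ _ _),
          comm_right_add hcen (by rw [hL, hL]; exact commute_C hK _ _ _ _), hBC, mul_one] at h
        exact h.symm
      · intro r f a
        have := inv_comm r 0 0 f a 0 0 (commute_C hK _ _ _ _)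
        simpa [C, k11] using this
      · simp
      · rw [units_zpow_six hK, units_zpow_six hK, units_zpow_six hK]
        simp only [Units.val_one, one_pow, inv_one, mul_one, Units.val_mk0]
        haveI := charP_three hK
        haveI := Fact.mk Nat.prime_three
        intro h
        rw [add_pow_char_pow, one_pow] at h
        set S := x ^ 3 ^ (m + 1)
        field_simp at h
        have : (1 - x) * (S - x ^ 3) = 0 := by linear_combination h - x * S * h3 - x ^ 3 * h3
        rcases mul_eq_zero.mp this with h5 | h5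
        · exact x2 h5
        · exact x3 (sub_eq_zero.mp h5)
    rw [← commutatorElement_eq_one_iff_commute,
      CfsgLib.StSL.comm_congr hcen (a' := L (C f)) (b' := L (wg hK a 0 0) * L (wg hK 0 e f'))
        (by rw [hL]; exact hxf) (by rw [map_mul, hL, hL, ← wg_split]; exact hye),
      comm_right_add hcen (by rw [hL, hL]; exact commute_C hK _ _ _ _), cCA, hBC, mul_one]

set_option maxHeartbeats 4000000 in
/-- The derived group of the preimage of the Sylow subgroup meets the kernel in elements killed by q - 1. -/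
theorem ker_inf_commutator {z : Γ} (hz : z ∈ σ.ker) (hzU : z ∈ (Us K m).comap σ)
    (hzc : (⟨z, hzU⟩ : (Us K m).comap σ) ∈ commutator ((Us K m).comap σ)) : z ^ (Fintype.card K - 1) = 1 := by
  classical
  have h3 := hc3 hK
  obtain ⟨L, hL⟩ : ∃ L : RG K m → Γ, ∀ g, σ (L g) = g := hsurj.hasRightInverse
  set E' := (BC hK).comap σ with hE'
  letI : CommGroup E' :=
    { (inferInstance : Group E') with
      mul_comm := fun a b => Subtype.ext ((commute_layers hK hsurj hcen hm).1 a.2 b.2).eq }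
  have cE3 : ∀ {x y : Γ}, σ x ∈ CC hK → σ y ∈ Us K m → Commute x y := fun hx hy =>
    (commute_layers hK hsurj hcen hm).2 hx hy
  have eU : ∀ {x : Γ}, x ∈ E' → σ x ∈ Us K m := fun hx => BC_le_Us hK hx
  -- conjugation by the torus
  have stab : ∀ (r : Kˣ), ∀ x ∈ E', L (tg hK r) * x * (L (tg hK r))⁻¹ ∈ E' := by
    intro r x hx
    show σ _ ∈ BC hK
    rw [map_mul, map_mul, map_inv, hL]
    exact tg_fix_BC hK r hx
  let τ : Kˣ → (E' →* E') := fun r =>
    { toFun := fun x => ⟨_, stab r x x.2⟩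
      map_one' := Subtype.ext (by simp)
      map_mul' := fun x y => Subtype.ext (by simp [mul_assoc]) }
  let Φ : E' →* E' := ∏ r : Kˣ, τ r
  -- the map on commutators
  have cm : ∀ {x y : Γ}, σ x ∈ Us K m → σ y ∈ Us K m → ⁅x, y⁆ ∈ E' := by
    intro x y hx hy
    show σ ⁅x, y⁆ ∈ BC hK
    obtain ⟨a, e, f, hxe⟩ := (mem_Us_iff hK).mp hx
    obtain ⟨a', e', f', hye⟩ := (mem_Us_iff hK).mp hy
    have e1 : σ x * σ y = wg hK 0 (a' * (a ^ 3 ^ m) ^ 3 - a * (a' ^ 3 ^ m) ^ 3)
        ((f + f' - a' * e + a' ^ 2 * (a ^ 3 ^ m) ^ 3) - (f' + f - a * e' + a ^ 2 * (a' ^ 3 ^ m) ^ 3) +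
          (a + a') * (a' * (a ^ 3 ^ m) ^ 3 - a * (a' ^ 3 ^ m) ^ 3)) * (σ y * σ x) := by
      rw [hxe, hye, wg_mul, wg_mul, wg_mul]
      congr 1 <;> first | ring1 | (simp; ring1) | (simp [pow_succ]; ring1)
    rw [map_commutatorElement, commutatorElement_def,
      show σ x * σ y * (σ x)⁻¹ * (σ y)⁻¹ = σ x * σ y * (σ y * σ x)⁻¹ by group, e1, mul_inv_cancel_right]
    exact wg_zero_mem hK _ _
  have τeq : ∀ r {x y x' y' : Γ} (hx : σ x ∈ Us K m) (hy : σ y ∈ Us K m) (hx' : σ x' ∈ Us K m)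
      (hy' : σ y' ∈ Us K m), σ x' = tg hK r * σ x * (tg hK r)⁻¹ → σ y' = tg hK r * σ y * (tg hK r)⁻¹ →
      τ r ⟨_, cm hx hy⟩ = ⟨_, cm hx' hy'⟩ := by
    intro r x y x' y' hx hy hx' hy' h1 h2
    apply Subtype.ext
    show L (tg hK r) * ⁅x, y⁆ * (L (tg hK r))⁻¹ = ⁅x', y'⁆
    rw [conj_commutator]
    refine CfsgLib.StSL.comm_congr hcen ?_ ?_ <;> rw [map_mul, map_mul, map_inv, hL]
    exacts [h1.symm, h2.symm]
  have Φinv : ∀ r (d : E'), Φ (τ r d) = Φ d := by
    intro r d
    simp only [Φ, MonoidHom.finsetProd_apply]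
    refine Fintype.prod_equiv (Equiv.mulRight r) _ _ fun s => Subtype.ext ?_
    show L (tg hK s) * (L (tg hK r) * d * (L (tg hK r))⁻¹) * (L (tg hK s))⁻¹ =
      L (tg hK (s * r)) * d * (L (tg hK (s * r)))⁻¹
    obtain ⟨k, hk, hsr⟩ : ∃ k ∈ σ.ker, L (tg hK s) * L (tg hK r) = k * L (tg hK (s * r)) := by
      refine ⟨L (tg hK s) * L (tg hK r) * (L (tg hK (s * r)))⁻¹, ?_, by group⟩
      rw [MonoidHom.mem_ker, map_mul, map_mul, map_inv, hL, hL, hL, mul_inv_eq_one]
      exact Subtype.ext (th_mul s r).symm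
    calc L (tg hK s) * (L (tg hK r) * d * (L (tg hK r))⁻¹) * (L (tg hK s))⁻¹
        = (L (tg hK s) * L (tg hK r)) * d * (L (tg hK s) * L (tg hK r))⁻¹ := by group
      _ = k * (L (tg hK (s * r)) * d * (L (tg hK (s * r)))⁻¹) * k⁻¹ := by rw [hsr]; group
      _ = _ := by rw [← Subgroup.mem_center_iff.mp (hcen hk), mul_inv_cancel_right]
  -- commutators with the preimage of BC are central and killed
  have cC : ∀ {x y : Γ}, σ x ∈ Us K m → y ∈ E' → σ ⁅x, y⁆ ∈ CC hK := fun hx hy => by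
    rw [map_commutatorElement]
    exact (conj_BC hK hx hy).2
  have ΦAB : ∀ (x y : Γ) (hx : σ x ∈ Us K m) (hy : y ∈ E'), Φ ⟨_, cm hx (eU hy)⟩ = 1 := by
    intro x y hx hy
    obtain ⟨e, f, hye⟩ := id hy
    obtain ⟨a, e1, f1, hxe⟩ := (mem_Us_iff hK).mp hx
    let A : K → Γ := fun a => L (wg hK a 0 0)
    have hA : ∀ a, σ (A a) ∈ Us K m := fun a => by rw [hL]; exact wg_mem hK _ _ _
    have hY : ∀ e f, σ (L (wg hK 0 e f)) ∈ Us K m := fun e f => by rw [hL]; exact wg_mem hK _ _ _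
    let P : K → K → K → E' := fun a e f => ⟨⁅A a, L (wg hK 0 e f)⁆, cm (hA a) (hY e f)⟩
    have hye' : L (wg hK 0 e f) ∈ E' := by show σ _ ∈ BC hK; rw [hL]; exact wg_zero_mem hK _ _
    -- reduce to the first coordinate
    have hxy : ⁅x, y⁆ = ⁅A a, L (wg hK 0 e f)⁆ := by
      rw [CfsgLib.StSL.comm_congr hcen (a' := A a * L (wg hK 0 e1 f1)) (b' := L (wg hK 0 e f))
        (by rw [map_mul, hL, hL, ← wg_split]; exact hxe) (by rw [hL]; exact hye), comm_mul_left,
        commutatorElement_eq_one_iff_commute.mpr ((commute_layers hK hsurj hcen hm).1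
          (by rw [hL]; exact wg_zero_mem hK _ _) (by rw [hL]; exact wg_zero_mem hK _ _))]
      simp
    have key : ∀ a e f, Φ (P a e f) = 1 := by
      intro a e f
      refine add_even_trivial h3
        (fun a => Φ (P a e f))
        (fun b b' => ?_) (fun b => ?_) a
      · rw [← map_mul]
        congr 1
        apply Subtype.ext
        show ⁅A (b + b'), L (wg hK 0 e f)⁆ = ⁅A b, L (wg hK 0 e f)⁆ * ⁅A b', L (wg hK 0 e f)⁆
        set Y := L (wg hK 0 e f) with hY
        have hYE : Y ∈ E' := by show σ _ ∈ BC hK; rw [hL]; exact wg_zero_mem hK _ _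
        have h1 : σ (A b' * A b) = σ (A (b + b') * L (wg hK 0 (b * (b' ^ 3 ^ m) ^ 3) (b ^ 2 * (b' ^ 3 ^ m) ^ 3))) := by
          rw [map_mul, map_mul, hL, hL, hL, hL, wg_mul, wg_mul]
          simp [add_comm]
        set k := L (wg hK 0 (b * (b' ^ 3 ^ m) ^ 3) (b ^ 2 * (b' ^ 3 ^ m) ^ 3)) with hkd
        have hkB : σ k ∈ BC hK := by rw [hkd, hL]; exact wg_zero_mem hK _ _
        have hkY : ⁅k, Y⁆ = 1 := commutatorElement_eq_one_iff_commute.mpr
          ((commute_layers hK hsurj hcen hm (x := k) (y := Y)).1 hkB hYE)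
        have hcomm : A b' * ⁅A b, Y⁆ * (A b')⁻¹ = ⁅A b, Y⁆ := by
          have hC : σ ⁅A b, Y⁆ ∈ CC hK := cC (x := A b) (y := Y) (hA b) hYE
          rw [← (cE3 (x := ⁅A b, Y⁆) (y := A b') hC (hA b')).eq, mul_inv_cancel_right]
        have h2 := CfsgLib.StSL.comm_congr hcen h1 (rfl : σ Y = σ Y)
        rw [comm_mul_left, comm_mul_left, hcomm, hkY, mul_one, mul_inv_cancel, one_mul] at h2
        exact h2.symm
      · obtain ⟨k6, -, -, -, k10, k11⟩ := kk_val (m := m)
        have hf : ∀ a e f g, Φ (P a e f) = Φ (P a e g) := by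
          intro a e f g
          congr 1
          apply Subtype.ext
          show ⁅A a, L (wg hK 0 e f)⁆ = ⁅A a, L (wg hK 0 e g)⁆
          have hkC : σ (L (wg hK 0 0 (f - g))) ∈ CC hK := by rw [hL]; exact ⟨f - g, rfl⟩
          have hka : ⁅A a, L (wg hK 0 0 (f - g))⁆ = 1 := commutatorElement_eq_one_iff_commute.mpr
            (cE3 (x := L (wg hK 0 0 (f - g))) (y := A a) hkC (hA a)).symm
          have hsp : σ (L (wg hK 0 e f)) = σ (L (wg hK 0 e g) * L (wg hK 0 0 (f - g))) := by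
            rw [map_mul, hL, hL, hL, wg_mul]; simp
          rw [CfsgLib.StSL.comm_congr hcen (rfl : σ (A a) = σ (A a)) hsp, comm_mul_right, hka]
          simp
        show Φ (P (-b) e f) = Φ (P b e f)
        rw [hf b e f (-f)]
        have hτ : τ (-1) (P b e (-f)) = P (-b) e f :=
          τeq (-1) (hA b) (hY e (-f)) (hA (-b)) (hY e f)
            (by rw [hL, hL, tg_neg]; simp) (by rw [hL, hL, tg_neg]; simp)
        rw [← hτ, Φinv]
    rw [show (⟨_, cm hx (eU hy)⟩ : E') = P a e f from Subtype.ext hxy]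
    exact key a e f
  have Φconj : ∀ (x : Γ) (hx : σ x ∈ Us K m) (d : E') (hd : x * d * x⁻¹ ∈ E'), Φ ⟨_, hd⟩ = Φ d := by
    intro x hx d hd
    rw [show (⟨_, hd⟩ : E') = ⟨_, cm hx (eU d.2)⟩ * d from Subtype.ext (by
      show x * d * x⁻¹ = ⁅x, (d : Γ)⁆ * d
      simp only [commutatorElement_def]; group), map_mul, ΦAB x d hx d.2, one_mul]
  -- the pairing on the first coordinates
  let A : K → Γ := fun a => L (wg hK a 0 0)
  have hA : ∀ a, σ (A a) ∈ Us K m := fun a => by rw [hL]; exact wg_mem hK _ _ _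
  let ψ : K → K → E' := fun a a' => Φ ⟨_, cm (hA a) (hA a')⟩
  have hkl : ∀ (x k y : Γ) (hx : σ x ∈ Us K m) (hk : k ∈ E') (hy : σ y ∈ Us K m)
      (hxk : σ (x * k) ∈ Us K m), Φ ⟨_, cm hxk hy⟩ = Φ ⟨_, cm hx hy⟩ := by
    intro x k y hx hk hy hxk
    have hc : x * ⁅k, y⁆ * x⁻¹ ∈ E' := by
      show σ _ ∈ BC hK
      rw [map_mul, map_mul, map_inv]
      exact (conj_BC hK hx (cm (eU hk) hy)).1
    rw [show (⟨_, cm hxk hy⟩ : E') = ⟨_, hc⟩ * ⟨_, cm hx hy⟩ from Subtype.ext (comm_mul_left x k y),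
      map_mul, Φconj x hx ⟨_, cm (eU hk) hy⟩ hc,
      show (⟨_, cm (eU hk) hy⟩ : E') = (⟨_, cm hy (eU hk)⟩ : E')⁻¹ from Subtype.ext (commutatorElement_inv y k).symm,
      map_inv, ΦAB y k hy hk, inv_one, one_mul]
  have hsum : ∀ a a', ∃ k ∈ E', σ (A a * A a') = σ (A (a + a') * k) := fun a a' =>
    ⟨L (wg hK 0 (a' * (a ^ 3 ^ m) ^ 3) (a' ^ 2 * (a ^ 3 ^ m) ^ 3)),
      by show σ _ ∈ BC hK; rw [hL]; exact wg_zero_mem hK _ _, by
      rw [map_mul, map_mul, hL, hL, hL, hL, wg_mul, wg_mul]; simp⟩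
  have ψl : ∀ a a' b, ψ (a + a') b = ψ a b * ψ a' b := by
    intro a a' b
    obtain ⟨k, hk, hs⟩ := hsum a' a
    have h1 : σ (A a' * A a) ∈ Us K m := by rw [map_mul]; exact mul_mem (hA _) (hA _)
    have h2 : σ (A (a + a') * k) ∈ Us K m := by rw [map_mul]; exact mul_mem (hA _) (eU hk)
    have hc : A a' * ⁅A a, A b⁆ * (A a')⁻¹ ∈ E' := by
      show σ _ ∈ BC hK
      rw [map_mul, map_mul, map_inv]
      exact (conj_BC hK (hA a') (cm (hA a) (hA b))).1
    calc ψ (a + a') b = Φ ⟨_, cm h2 (hA b)⟩ := (hkl _ k _ (hA _) hk (hA b) h2).symm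
      _ = Φ ⟨_, cm h1 (hA b)⟩ := by
          congr 1
          exact Subtype.ext (CfsgLib.StSL.comm_congr hcen (by rw [hs, add_comm a a']) rfl).symm
      _ = Φ (⟨_, hc⟩ * ⟨_, cm (hA a') (hA b)⟩) := by
          congr 1
          exact Subtype.ext (comm_mul_left _ _ _)
      _ = ψ a b * ψ a' b := by rw [map_mul, Φconj (A a') (hA a') ⟨_, cm (hA a) (hA b)⟩ hc]
  have ψsymm : ∀ a b, ψ b a = (ψ a b)⁻¹ := fun a b => by
    show Φ _ = (Φ _)⁻¹
    rw [← map_inv]
    congr 1
    exact Subtype.ext (commutatorElement_inv _ _).symm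
  have ψr : ∀ a b b', ψ a (b + b') = ψ a b * ψ a b' := fun a b b' => by
    rw [ψsymm, ψl, mul_inv, ← ψsymm, ← ψsymm]
  have ψ1 : ∀ a b, ψ a b = 1 := by
    obtain ⟨x, x0, x1, x2, -⟩ := exists_mixed hK hm
    refine biadd_id ψ ψl ψr (fun r : Kˣ => (r : K)) (fun r => r.ne_zero) ?_
      (r₁ := 1) (r₂ := Units.mk0 x x0) (r₃ := Units.mk0 (1 + x) x1) ?_ ?_
    · intro r a b
      show Φ _ = Φ _
      conv_rhs => rw [← Φinv (r ^ (3 * 3 ^ m + 2))]
      congr 1
      refine (τeq (r ^ (3 * 3 ^ m + 2)) (hA a) (hA b) (hA _) (hA _) ?_ ?_).symm <;>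
        rw [hL, hL, tg_wg, (kk6_inv hK r).1] <;> simp
    · simp
    · simp only [Units.val_one, inv_one, Units.val_mk0]
      intro h
      field_simp at h
      have : (1 - x) ^ 2 = 0 := by linear_combination h - x * h3
      exact x2 (pow_eq_zero_iff two_ne_zero |>.mp this)
  -- the derived group
  have hcomm : (commutator ((Us K m).comap σ)).map ((Us K m).comap σ).subtype ≤ Φ.ker.map E'.subtype := by
    rw [commutator_def, Subgroup.map_commutator, Subgroup.commutator_le]
    rintro _ ⟨⟨g, hg⟩, -, rfl⟩ _ ⟨⟨h, hh⟩, -, rfl⟩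
    refine ⟨⟨_, cm hg hh⟩, ?_, rfl⟩
    rw [SetLike.mem_coe, MonoidHom.mem_ker]
    obtain ⟨a, e, f, hge⟩ := (mem_Us_iff hK).mp hg
    obtain ⟨a', e', f', hhe⟩ := (mem_Us_iff hK).mp hh
    have k1 : L (wg hK 0 e f) ∈ E' := by show σ _ ∈ BC hK; rw [hL]; exact wg_zero_mem hK _ _
    have k2 : L (wg hK 0 e' f') ∈ E' := by show σ _ ∈ BC hK; rw [hL]; exact wg_zero_mem hK _ _
    have g' : σ (A a * L (wg hK 0 e f)) = σ g := by rw [map_mul, hL, hL, ← wg_split, hge]
    have h' : σ (A a' * L (wg hK 0 e' f')) = σ h := by rw [map_mul, hL, hL, ← wg_split, hhe]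
    have gU : σ (A a * L (wg hK 0 e f)) ∈ Us K m := by rw [g']; exact hg
    have hU : σ (A a' * L (wg hK 0 e' f')) ∈ Us K m := by rw [h']; exact hh
    rw [show (⟨_, cm hg hh⟩ : E') = ⟨_, cm gU hU⟩ from
        Subtype.ext (CfsgLib.StSL.comm_congr hcen g'.symm h'.symm),
      hkl _ _ _ (hA a) k1 hU gU,
      show (⟨_, cm (hA a) hU⟩ : E') = (⟨_, cm hU (hA a)⟩ : E')⁻¹ from
        Subtype.ext (commutatorElement_inv _ _).symm,
      map_inv, hkl _ _ _ (hA a') k2 (hA a) hU, inv_eq_one]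
    exact ψ1 a' a
  obtain ⟨x, hx, hxz⟩ := hcomm ⟨⟨z, hzU⟩, hzc, rfl⟩
  rw [SetLike.mem_coe, MonoidHom.mem_ker] at hx
  have hfix : ∀ r, τ r x = x := fun r => Subtype.ext (by
    show L (tg hK r) * (x : Γ) * (L (tg hK r))⁻¹ = x
    rw [show (x : Γ) = z from hxz, Subgroup.mem_center_iff.mp (hcen hz), mul_inv_cancel_right])
  simp only [Φ, MonoidHom.finsetProd_apply, hfix, Finset.prod_const, Finset.card_univ] at hx
  rw [Fintype.card_units] at hx
  have h := congrArg Subtype.val hx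
  rw [SubmonoidClass.coe_pow, show (x : Γ) = z from hxz] at h
  exact h

end Lifts

include hK in
theorem card_index (hcU : Nat.card (Us K m) = Fintype.card K ^ 3) :
    (Us K m).index = (Fintype.card K - 1) * (Fintype.card K ^ 3 + 1) := by
  have h := (Us K m).card_mul_index
  rw [hcU, card_G hK, ← hK] at h
  refine Nat.eq_of_mul_eq_mul_left (pow_pos Fintype.card_pos 3) (h.trans ?_)
  ring

include hK in
/-- Stem extensions of a small Ree group are trivial. -/
theorem ker_eq_bot (hm : 1 ≤ m) {Γ : Type*} [Group Γ] [Finite Γ] {σ : Γ →* RG K m}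
    (hσ : Cfsg.IsStemExtension σ) : σ.ker = ⊥ := by
  classical
  obtain ⟨R⟩ := exists_ree hm hK
  rw [eq_bot_iff]
  intro z hz
  rw [Subgroup.mem_bot, ← orderOf_eq_one_iff]
  by_contra hne
  obtain ⟨p, hp, hpd⟩ := Nat.exists_prime_and_dvd hne
  haveI : Fact p.Prime := ⟨hp⟩
  by_cases h3 : p = 3
  · subst h3
    obtain ⟨hmem, hc⟩ := CfsgLib.StSL.pow_index_mem hσ (Us K m) hz
    have h1 := ker_inf_commutator hK hσ.1 hσ.2.1 hm (Subgroup.pow_mem _ hz _) hmem hc
    rw [← pow_mul] at h1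
    have hcU : Nat.card (Us K m) = Fintype.card K ^ 3 := by
      rw [Nat.card_congr (Subgroup.subgroupOfEquivOfLe inf_le_right).toEquiv, card_U hK, hK]
    rw [card_index hK hcU, hK] at h1
    have h5 : 3 ∣ 3 ^ (2 * m + 1) := dvd_pow_self _ (by omega)
    have hd := hpd.trans (orderOf_dvd_of_pow_eq_one h1)
    have n1 : ¬ 3 ∣ 3 ^ (2 * m + 1) - 1 := by
      have : 0 < 3 ^ (2 * m + 1) := by positivity
      omega
    have n2 : ¬ 3 ∣ (3 ^ (2 * m + 1)) ^ 3 + 1 := by
      have : 3 ∣ (3 ^ (2 * m + 1)) ^ 3 := dvd_pow h5 (by norm_num)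
      omega
    rcases (Nat.Prime.dvd_mul hp).mp hd with h | h
    · rcases (Nat.Prime.dvd_mul hp).mp h with h' | h'
      exacts [n1 h', n2 h']
    · exact n1 h
  obtain ⟨P⟩ : Nonempty (Sylow p (RG K m)) := inferInstance
  obtain ⟨hmem, hc⟩ := CfsgLib.StSL.pow_index_mem hσ (P : Subgroup (RG K m)) hz
  have hbot : commutator ((P : Subgroup (RG K m)).comap σ) = ⊥ := by
    rw [commutator_def, Subgroup.commutator_eq_bot_iff_le_centralizer]
    rintro ⟨x, hx⟩ -
    rw [Subgroup.mem_centralizer_iff]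
    rintro ⟨y, hy⟩ -
    refine Subtype.ext (commutatorElement_eq_one_iff_commute.mp ?_)
    show ⁅y, x⁆ = 1
    by_cases h2 : p = 2
    · subst h2
      haveI := CfsgLib.Chev.T2G2.charP_three hK
      obtain ⟨-, hN⟩ := sylow_data R P
      haveI := Fact.mk (show Nat.Prime 7 by norm_num)
      obtain ⟨⟨g, hg⟩, hg7⟩ := exists_prime_orderOf_dvd_card'
        (G := Subgroup.normalizer ((P : Subgroup (RG K m)) : Set (RG K m))) 7 (by rw [hN]; norm_num)
      rw [Subgroup.orderOf_mk] at hg7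
      have hgS : ∀ s ∈ (P : Subgroup (RG K m)), g * s * g⁻¹ ∈ (P : Subgroup (RG K m)) := fun s hs =>
        (Subgroup.mem_normalizer_iff.mp hg s).mp hs
      refine comm_seven hσ.2.1 hσ.1 _ (R.syl P).1 (R.syl P).2 g (hg7 ▸ pow_orderOf_eq_one g) hgS ?_ hy hx
      intro s hs hfix
      by_contra hs1
      obtain ⟨hCP, -⟩ := sylow_data R P
      have horb := eq_one_of_seven_fix (R.syl P).1 (R.syl P).2 hg7 hgS hs hs1 hfix
      have : g ∈ (P : Subgroup (RG K m)) := by
        rw [← hCP, Subgroup.mem_centralizer_iff]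
        exact fun t ht => (horb t ht).symm
      have h22 := orderOf_dvd_of_pow_eq_one (x := g) (n := 2) (by rw [pow_two]; exact (R.syl P).2 g this)
      rw [hg7] at h22
      norm_num at h22
    · have h5 : 3 < p := by
        have := hp.two_le
        omega
      haveI := CfsgLib.ReeSylowCyclic.sylow_cyclic hK hm h5 P
      obtain ⟨g, hg⟩ := IsCyclic.exists_generator (α := (P : Subgroup (RG K m)))
      obtain ⟨a, ha⟩ := hσ.1 g.1
      obtain ⟨k, hk⟩ := Subgroup.mem_zpowers_iff.mp (hg ⟨σ x, hx⟩)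
      obtain ⟨l, hl⟩ := Subgroup.mem_zpowers_iff.mp (hg ⟨σ y, hy⟩)
      rw [CfsgLib.StSL.comm_congr hσ.2.1
          (show σ y = σ (a ^ l) by rw [map_zpow, ha]; exact (congrArg Subtype.val hl).symm)
          (show σ x = σ (a ^ k) by rw [map_zpow, ha]; exact (congrArg Subtype.val hk).symm),
        commutatorElement_eq_one_iff_commute]
      exact Commute.zpow_zpow_self a l k
  rw [hbot, Subgroup.mem_bot] at hc
  exact P.not_dvd_index (hpd.trans (orderOf_dvd_of_pow_eq_one (congrArg Subtype.val hc)))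
end CfsgLib.ReeLocal.Multiplier
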