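import Mathlib
import Cfsg.Agent.Lib.ReeTori.Count
import Cfsg.Agent.Lib.ReeLocal.Gen

/-!
The four classes of tori of a small Ree group, conjugacy of their subgroups and their centralisers.
-/

set_option autoImplicit false
set_option linter.unusedSectionVars false
set_option linter.style.haveILetI false
set_option linter.deprecated false
set_option linter.unusedVariables false

namespace CfsgLib.ReeLocal

open CfsgLib.DicksonFull CfsgLib.ReeTori

variable {G : Type*} [Group G]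

/-- A cyclic TI subgroup of order `t` covering all elements of order dividing `t`. -/
structure IsTorus (A : Subgroup G) (t n : ℕ) : Prop where
  cyc : IsCyclic A
  card : Nat.card A = t
  card_norm : Nat.card (Subgroup.normalizer (A : Set G)) = n
  ti : ∀ g x : G, x ∈ A → x ≠ 1 → g * x * g⁻¹ ∈ A → g ∈ Subgroup.normalizer (A : Set G)
  cov : ∀ z : G, z ≠ 1 → orderOf z ∣ t → ∃ g : G, g * z * g⁻¹ ∈ A

variable [Finite G]

theorem IsTorus.cov' {A : Subgroup G} {t n : ℕ} (hA : IsTorus A t n) {z : G} (h : orderOf z ∣ t) :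
    ∃ g : G, g * z * g⁻¹ ∈ A := by
  by_cases hz : z = 1
  · exact ⟨1, by rw [hz]; simp⟩
  · exact hA.cov z hz h

/-- Cyclic subgroups of equal order inside conjugates of a torus are conjugate. -/
theorem IsTorus.sub_conj {A : Subgroup G} {t n : ℕ} (hA : IsTorus A t n) {B C : Subgroup G}
    (hB : IsCyclic B) (hC : IsCyclic C) (h : Nat.card B = Nat.card C) (hd : Nat.card B ∣ t) :
    ∃ g : G, C = B.map (MulAut.conj g).toMonoidHom := by
  haveI := hA.cyc
  have hmove : ∀ D : Subgroup G, IsCyclic D → Nat.card D ∣ t →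
      ∃ g : G, D.map (MulAut.conj g).toMonoidHom ≤ A := by
    intro D hD hDt
    haveI := hD
    obtain ⟨⟨d, hd⟩, hdo⟩ := IsCyclic.exists_ofOrder_eq_natCard (α := D)
    rw [Subgroup.orderOf_mk] at hdo
    obtain ⟨g, hg⟩ := hA.cov' (z := d) (hdo ▸ hDt)
    refine ⟨g, ?_⟩
    have hD' : Subgroup.zpowers d = D := Subgroup.eq_of_le_of_card_ge (Subgroup.zpowers_le.mpr hd)
      (by rw [Nat.card_zpowers, hdo])
    rw [← hD', MonoidHom.map_zpowers, Subgroup.zpowers_le]
    exact hg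
  obtain ⟨g, hg⟩ := hmove B hB hd
  obtain ⟨k, hk⟩ := hmove C hC (h ▸ hd)
  refine ⟨k⁻¹ * g, (Subgroup.eq_of_le_of_card_ge (fun y hy => ?_) (by rw [card_conj, h])).symm⟩
  obtain ⟨b, hb, rfl⟩ := hy
  show k⁻¹ * g * b * (k⁻¹ * g)⁻¹ ∈ C
  have h1 : g * b * g⁻¹ ∈ A := hg ⟨b, hb, rfl⟩
  have h2 : g * b * g⁻¹ ∈ C.map (MulAut.conj k).toMonoidHom := by
    refine mem_of_pow_eq_one hk h1 ?_
    rw [card_conj, ← h, conj_pow]
    have h3 : b ^ Nat.card B = 1 := congrArg Subtype.val (pow_card_eq_one' (x := (⟨b, hb⟩ : B)))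
    rw [h3, mul_one, mul_inv_cancel]
  rw [mem_conj] at h2
  rwa [show k⁻¹ * g * b * (k⁻¹ * g)⁻¹ = k⁻¹ * (g * b * g⁻¹) * k by group]

/-- The elements of a given toral order. -/
theorem IsTorus.count {A : Subgroup G} {t n : ℕ} (hA : IsTorus A t n) {i : ℕ} (hi : 1 < i) (hit : i ∣ t) :
    Nat.card {z : G // orderOf z = i} * n = Nat.card G * Nat.totient i := by
  haveI := hA.cyc
  have hne : ∀ {z : G}, orderOf z = i → z ≠ 1 := fun hz e => by rw [e, orderOf_one] at hz; omega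
  rw [← card_cyclic_order (A := A) (i := i) (by rwa [hA.card]), ← hA.card_norm]
  exact ti_count_pred A _ (fun z => orderOf z = i) (fun g z h => by rwa [orderOf_conj'])
    (fun u hu x hx => (Subgroup.mem_normalizer_iff.mp hu x).mp hx) (fun g x hx hP => hA.ti g x hx (hne hP))
    (fun z hz => hA.cov z (hne hz) (hz ▸ hit))

variable {F : Type*} [Field F] [Fintype F] {m : ℕ} [Fact (Nat.Prime 3)] [CharP F 3] (R : Ree G F m)

local notation "PSL" => Matrix.ProjectiveSpecialLinearGroup (Fin 2) F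
local notation "q" => Fintype.card F

include R

theorem exists_split : ∃ A : Subgroup G, IsTorus A ((q - 1) / 2) (2 * (q - 1)) := by
  obtain ⟨A, h1, h2, h3, h4, h5⟩ := split_data R
  exact ⟨A, h1, h2, h3, h4, h5⟩

theorem exists_minus_torus : ∃ A : Subgroup G, IsTorus A ((q + 1) / 4) (6 * (q + 1)) := by
  obtain ⟨A, h1, h2, h3, h4, h5⟩ := minus_data R
  exact ⟨A, h1, h2, h3, h4, h5⟩

theorem big_prod : (q - 3 ^ (m + 1) + 1) * (q + 3 ^ (m + 1) + 1) = q ^ 2 - q + 1 := by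
  have hs3 : (3 : ℤ) ^ (m + 1) * 3 ^ (m + 1) = 3 * q := by
    rw [R.data.hq]; push_cast; rw [← pow_add, ← pow_succ']; congr 1; ring
  have hslt : 3 ^ (m + 1) < q := by
    rw [R.data.hq]
    exact Nat.pow_lt_pow_right (by norm_num) (by have := R.data.hm; omega)
  zify [hslt.le, Nat.le_self_pow two_ne_zero q]
  linear_combination -hs3

/-- A TI cyclic subgroup of order dividing `q² - q + 1` with normaliser six times larger is a torus. -/
theorem big_torus {A : Subgroup G} (hc : IsCyclic A) (hd : Nat.card A ∣ q ^ 2 - q + 1)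
    (hN : Nat.card (Subgroup.normalizer (A : Set G)) = 6 * Nat.card A)
    (hTI : ∀ g x : G, x ∈ A → x ≠ 1 → g * x * g⁻¹ ∈ A → g ∈ Subgroup.normalizer (A : Set G)) :
    IsTorus A (Nat.card A) (6 * Nat.card A) := by
  haveI := hc
  refine ⟨hc, rfl, hN, hTI, fun z hz hzA => ?_⟩
  obtain ⟨r, hr, hrz⟩ := Nat.exists_prime_and_dvd (n := orderOf z) (fun e => hz (orderOf_eq_one_iff.mp e))
  haveI := Fact.mk hr
  have hrN := (hrz.trans hzA).trans hd
  obtain ⟨hr7, -⟩ := nn_prime R hr hrN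
  obtain ⟨⟨w, hw⟩, hwo⟩ := exists_prime_orderOf_dvd_card' (G := A) r (hrz.trans hzA)
  rw [Subgroup.orderOf_mk] at hwo
  obtain ⟨g, hg⟩ := conj_of_cyclic_sylow (R.cyclic (p := r) (by omega)) (exists_pow_prime hrz) hwo
  obtain ⟨y, hy⟩ : ∃ y, y = g * z ^ (orderOf z / r) * g⁻¹ := ⟨_, rfl⟩
  rw [← hy] at hg
  have hyA : y ∈ A := Subgroup.zpowers_le.mpr hw hg
  have hyo : orderOf y = r := by rw [hy, orderOf_conj', exists_pow_prime hrz]
  have hy1 : y ≠ 1 := fun e => by rw [e, orderOf_one] at hyo; exact hr.ne_one hyo.symm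
  obtain ⟨-, hCd⟩ := big_cent R hrN hyo
  have hAC : A ≤ Subgroup.centralizer {y} := fun u hu => Subgroup.mem_centralizer_singleton_iff.mpr
    (congrArg Subtype.val ((IsCyclic.commGroup (α := A)).mul_comm ⟨u, hu⟩ ⟨y, hyA⟩))
  have hCN : Subgroup.centralizer {y} ≤ Subgroup.normalizer (A : Set G) := fun u hu => by
    refine hTI u y hyA hy1 ?_
    rw [Subgroup.mem_centralizer_singleton_iff.mp hu, mul_inv_cancel_right]
    exact hyA
  have h6 : (Nat.card (Subgroup.centralizer {y})).Coprime 6 := by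
    refine Nat.coprime_of_dvd fun s hs h1 h2 => ?_
    have h3 := (nn_prime R hs (h1.trans hCd)).1
    have := Nat.le_of_dvd (by norm_num) h2
    omega
  have heq : A = Subgroup.centralizer {y} := Subgroup.eq_of_le_of_card_ge hAC
    (Nat.le_of_dvd Nat.card_pos (h6.dvd_of_dvd_mul_left (hN ▸ Subgroup.card_dvd_of_le hCN)))
  refine ⟨g, ?_⟩
  rw [heq, Subgroup.mem_centralizer_singleton_iff, hy]
  exact ((commute_conj_iff (g := g)).mpr ((Commute.refl z).pow_right _)).eq

theorem exists_big : ∃ A B : Subgroup G, IsTorus A (q - 3 ^ (m + 1) + 1) (6 * (q - 3 ^ (m + 1) + 1)) ∧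
    IsTorus B (q + 3 ^ (m + 1) + 1) (6 * (q + 3 ^ (m + 1) + 1)) := by
  obtain ⟨A, B, ⟨a1, a2, a3, a4⟩, ⟨b1, b2, b3, b4⟩, -⟩ := big_pair R
  refine ⟨A, B, ?_, ?_⟩
  · rw [← a2] at a3 ⊢
    exact big_torus R a1 (a2 ▸ big_prod R ▸ dvd_mul_right _ _) a3 a4
  · rw [← b2] at b3 ⊢
    exact big_torus R b1 (b2 ▸ big_prod R ▸ dvd_mul_left _ _) b3 b4

/-- The four possible orders of a torus. -/
theorem exists_torus' {d : ℕ} (hd : d ∣ (q - 1) / 2 ∨ d ∣ (q + 1) / 4 ∨ d ∣ q - 3 ^ (m + 1) + 1 ∨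
    d ∣ q + 3 ^ (m + 1) + 1) : ∃ (A : Subgroup G) (t n : ℕ), IsTorus A t n ∧ d ∣ t := by
  obtain ⟨A, B, hA, hB⟩ := exists_big R
  rcases hd with h | h | h | h
  · obtain ⟨C, hC⟩ := exists_split R; exact ⟨C, _, _, hC, h⟩
  · obtain ⟨C, hC⟩ := exists_minus_torus R; exact ⟨C, _, _, hC, h⟩
  · exact ⟨A, _, _, hA, h⟩
  · exact ⟨B, _, _, hB, h⟩

/-- The centraliser in `H` of an element of order at least three. -/
theorem cent_H {x : G} (hx : x ∈ R.H) (hx2 : x * x ≠ 1) : Subgroup.centralizer {x} = R.H :=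
  le_antisymm (fun y hy => H_cent R hx hx2 (Subgroup.mem_centralizer_singleton_iff.mp hy))
    fun y hy => Subgroup.mem_centralizer_singleton_iff.mpr (H_comm R hy hx).eq

/-- Elements of order dividing `q - 1`, other than the involutions, are conjugate into `H`. -/
theorem split_conj {z : G} (hz2 : z * z ≠ 1) (hz : orderOf z ∣ q - 1) :
    ∃ g : G, g * z * g⁻¹ ∈ R.H ∧ g * z * g⁻¹ * (g * z * g⁻¹) ≠ 1 := by
  obtain ⟨k, hk, hk3, ha1, -, -⟩ := arith R
  have hnc : ¬ (orderOf z).Coprime ((q - 1) / 2) := by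
    intro h
    rw [show q - 1 = 2 * ((q - 1) / 2) by omega] at hz
    have := orderOf_dvd_iff_pow_eq_one.mp (h.dvd_of_dvd_mul_right hz)
    rw [pow_two] at this
    exact hz2 this
  obtain ⟨r, hr, hrz, hrj⟩ := Nat.Prime.not_coprime_iff_dvd.mp hnc
  haveI := Fact.mk hr
  have hr2 : r ≠ 2 := fun e => by rw [e] at hrj; omega
  obtain ⟨g, hg, hg2⟩ := split_prime_conj R hr2 (hrj.trans (Nat.div_dvd_of_dvd (by omega))) (exists_pow_prime hrz)
  refine ⟨g, H_cent R hg hg2 ((commute_conj_iff (g := g)).mpr ((Commute.refl z).pow_right _)), fun e => hz2 ?_⟩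
  rwa [show g * z * g⁻¹ * (g * z * g⁻¹) = g * (z * z) * g⁻¹ by group, mul_inv_eq_one, mul_eq_left] at e

/-- The centralisers of the subgroups of a split torus. -/
theorem split_centralizer {H : Subgroup G} (hH : IsCyclic H) (hcard : Nat.card H = (q - 1) / 2) :
    IsCyclic ↥(Subgroup.centralizer (H : Set G)) ∧ Nat.card ↥(Subgroup.centralizer (H : Set G)) = q - 1 ∧
      ∀ A : Subgroup G, A ≤ H → A ≠ ⊥ → Subgroup.centralizer (A : Set G) = Subgroup.centralizer (H : Set G) := by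
  obtain ⟨k, hk, hk3, ha1, -, -⟩ := arith R
  haveI := hH
  haveI := R.H_cyclic
  obtain ⟨⟨h, hh⟩, hho⟩ := IsCyclic.exists_ofOrder_eq_natCard (α := H)
  rw [Subgroup.orderOf_mk, hcard] at hho
  have hHz : H = Subgroup.zpowers h := (Subgroup.eq_of_le_of_card_ge (Subgroup.zpowers_le.mpr hh)
    (by rw [Nat.card_zpowers, hho, hcard])).symm
  have hodd : ∀ x ∈ H, Odd (orderOf x) := fun x hx =>
    Odd.of_dvd_nat (show Odd ((q - 1) / 2) by rw [ha1]; exact ⟨2 * k, by omega⟩)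
      (hcard ▸ Subgroup.orderOf_dvd_natCard _ hx)
  have hh1 : h ≠ 1 := fun e => by rw [e, orderOf_one] at hho; omega
  have hsq : ∀ x ∈ H, x ≠ 1 → x * x ≠ 1 := fun x hx hx1 => sq_ne_of_order R hx1 (hodd x hx)
  obtain ⟨g, hg, -⟩ := split_conj R (hsq h hh hh1) (hho ▸ Nat.div_dvd_of_dvd (by omega))
  have key : ∀ x ∈ H, x ≠ 1 → Subgroup.centralizer {x} = R.H.map (MulAut.conj g⁻¹).toMonoidHom := by
    intro x hx hx1
    have hgx : g * x * g⁻¹ ∈ R.H := by
      rw [hHz] at hx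
      obtain ⟨j, rfl⟩ := Subgroup.mem_zpowers_iff.mp hx
      rw [← conj_zpow]
      exact zpow_mem hg j
    have h1 := cent_conj g⁻¹ (g * x * g⁻¹)
    rw [show g⁻¹ * (g * x * g⁻¹) * g⁻¹⁻¹ = x by group] at h1
    rw [h1, cent_H R hgx fun e => hsq x hx hx1 (by
      rwa [show g * x * g⁻¹ * (g * x * g⁻¹) = g * (x * x) * g⁻¹ by group, mul_inv_eq_one, mul_eq_left] at e)]
  have hCH : Subgroup.centralizer (H : Set G) = R.H.map (MulAut.conj g⁻¹).toMonoidHom := by
    rw [← key h hh hh1, hHz, cent_zpowers]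
  refine ⟨?_, ?_, fun A hA hne => ?_⟩
  · rw [hCH]; exact isCyclic_conj _ _
  · rw [hCH, card_conj, R.card_H]
  · obtain ⟨x, hx, hx1⟩ : ∃ x ∈ A, x ≠ 1 := by
      by_contra hc
      push Not at hc
      exact hne ((Subgroup.eq_bot_iff_forall _).mpr hc)
    refine le_antisymm ?_ (Subgroup.centralizer_le (SetLike.coe_subset_coe.mpr hA))
    rw [hCH, ← key x (hA hx) hx1]
    exact Subgroup.centralizer_le (by simpa using hx)

/-- Elements of order dividing `(q + 1) / 4` are conjugate into `PSL₂`. -/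
theorem minus_conj {z : G} (hz1 : z ≠ 1) (hz : orderOf z ∣ (q + 1) / 4) :
    ∃ (g : G) (v : PSL), g * z * g⁻¹ = R.ι v ∧ v ≠ 1 ∧ orderOf v ∣ (q + 1) / 4 := by
  obtain ⟨A, hA⟩ := exists_minus_torus R
  obtain ⟨x₀, hx₀⟩ := exists_minus R.data
  obtain ⟨B, hB⟩ : ∃ B, B = (Subgroup.zpowers x₀).map R.ι := ⟨_, rfl⟩
  have hBc : Nat.card B = (q + 1) / 4 := by
    rw [hB, Subgroup.card_map_of_injective R.ι_inj, Nat.card_zpowers, hx₀]
  have hBcyc : IsCyclic B := hB ▸ isCyclic_of_surjective _ (R.ι.subgroupMap_surjective (Subgroup.zpowers x₀))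
  obtain ⟨k, hk⟩ := hA.sub_conj hA.cyc hBcyc (hA.card.trans hBc.symm) (hA.card ▸ dvd_rfl)
  obtain ⟨g, hg⟩ := hA.cov z hz1 hz
  have hm : k * (g * z * g⁻¹) * k⁻¹ ∈ B := hk ▸ ⟨_, hg, rfl⟩
  rw [hB] at hm
  obtain ⟨v, -, hv⟩ := hm
  rw [show k * (g * z * g⁻¹) * k⁻¹ = k * g * z * (k * g)⁻¹ by group] at hv
  have hvo : orderOf v = orderOf z := by rw [← orderOf_injective R.ι R.ι_inj v, hv, orderOf_conj']
  exact ⟨k * g, v, hv.symm, fun e => hz1 (orderOf_eq_one_iff.mp (by rw [← hvo, e, orderOf_one])), hvo ▸ hz⟩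

/-- The lift of a torus of `PSL₂` is abelian. -/
theorem lift_T_comm {v : PSL} (hv1 : v ≠ 1) (hv : orderOf v ∣ (q + 1) / 4) :
    IsMulCommutative ↥(R.lift ((psl (F := F) 3).T v)) := by
  obtain ⟨hs, -, -⟩ := minus_torus R.data hv1 hv
  refine ⟨⟨?_⟩⟩
  rintro ⟨x, a, ha, hx⟩ ⟨y, b, hb, hy⟩
  refine Subtype.ext ?_
  show x * y = y * x
  have hab : Commute (R.ι a) (R.ι b) := (tor_comm hs ha hb).map R.ι
  rcases hx with rfl | rfl <;> rcases hy with rfl | rfl
  · exact hab.eq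
  · exact ((R.a_comm a).symm.mul_right hab).eq
  · exact ((R.a_comm b).mul_left hab).eq
  · exact (((Commute.refl R.a).mul_right (R.a_comm b)).mul_left ((R.a_comm a).symm.mul_right hab)).eq

/-- The centralisers of the subgroups of a torus of order `(q + 1) / 4`. -/
theorem minus_centralizer {H : Subgroup G} (hH : IsCyclic H) (hcard : Nat.card H = (q + 1) / 4) :
    IsMulCommutative ↥(Subgroup.centralizer (H : Set G)) ∧
      Nat.card ↥(Subgroup.centralizer (H : Set G)) = q + 1 ∧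
      (∀ x ∈ Subgroup.centralizer (H : Set G), orderOf x ≠ 4) ∧
      ∀ A : Subgroup G, A ≤ H → A ≠ ⊥ → Subgroup.centralizer (A : Set G) = Subgroup.centralizer (H : Set G) := by
  obtain ⟨k, hk, hk3, -, ha2, -⟩ := arith R
  haveI := hH
  obtain ⟨⟨h, hh⟩, hho⟩ := IsCyclic.exists_ofOrder_eq_natCard (α := H)
  rw [Subgroup.orderOf_mk, hcard] at hho
  have hHz : H = Subgroup.zpowers h := (Subgroup.eq_of_le_of_card_ge (Subgroup.zpowers_le.mpr hh)
    (by rw [Nat.card_zpowers, hho, hcard])).symm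
  have hh1 : h ≠ 1 := fun e => by rw [e, orderOf_one] at hho; omega
  obtain ⟨g, v, hg, hv1, hvo⟩ := minus_conj R hh1 (dvd_of_eq hho)
  obtain ⟨hs, hT, -⟩ := minus_torus R.data hv1 hvo
  obtain ⟨X, hX⟩ : ∃ X, X = (R.lift ((psl (F := F) 3).T v)).map (MulAut.conj g⁻¹).toMonoidHom := ⟨_, rfl⟩
  have key : ∀ x ∈ H, x ≠ 1 → Subgroup.centralizer {x} = X := by
    intro x hx hx1
    rw [hHz] at hx
    obtain ⟨j, rfl⟩ := Subgroup.mem_zpowers_iff.mp hx
    have hgx : g * h ^ j * g⁻¹ = R.ι (v ^ j) := by rw [← conj_zpow, hg, map_zpow]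
    have hw1 : v ^ j ≠ 1 := fun e => by
      rw [e, map_one, mul_inv_eq_one, mul_eq_left] at hgx
      exact hx1 hgx
    have hwo : orderOf (v ^ j) ∣ (q + 1) / 4 := by
      have h1 := Subgroup.orderOf_dvd_natCard _ (Subgroup.zpow_mem _ (Subgroup.mem_zpowers v) j)
      rw [Nat.card_zpowers] at h1
      exact h1.trans hvo
    have h1 := cent_conj g⁻¹ (g * h ^ j * g⁻¹)
    rw [show g⁻¹ * (g * h ^ j * g⁻¹) * g⁻¹⁻¹ = h ^ j by group] at h1
    rw [h1, hgx, cent_minus R hw1 hwo, hX,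
      ((psl (F := F) 3).T_eq v (v ^ j) hs (zpow_mem ((psl (F := F) 3).mem_T v hs) j) hw1).2]
  have hCH : Subgroup.centralizer (H : Set G) = X := by rw [← key h hh hh1, hHz, cent_zpowers]
  refine ⟨?_, ?_, fun x _ => no_four R x, fun A hA hne => ?_⟩
  · rw [hCH, hX]
    haveI := lift_T_comm R hv1 hvo
    infer_instance
  · rw [hCH, hX, card_conj, card_lift', hT]
  · obtain ⟨x, hx, hx1⟩ : ∃ x ∈ A, x ≠ 1 := by
      by_contra hc
      push Not at hc
      exact hne ((Subgroup.eq_bot_iff_forall _).mpr hc)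
    refine le_antisymm ?_ (Subgroup.centralizer_le (SetLike.coe_subset_coe.mpr hA))
    rw [hCH, ← key x (hA hx) hx1]
    exact Subgroup.centralizer_le (by simpa using hx)

/-- The centraliser of a toral element of order dividing `(q + 1) / 4` has three involutions. -/
theorem minus_invol {y : G} (hy1 : y ≠ 1) (hy : orderOf y ∣ (q + 1) / 4) :
    Nat.card {t : G // orderOf t = 2 ∧ Commute t y} = 3 := by
  classical
  obtain ⟨k, hk, -⟩ := arith R
  obtain ⟨g, v, hg, hv1, hvo⟩ := minus_conj R hy1 hy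
  obtain ⟨hs, hT, -⟩ := minus_torus R.data hv1 hvo
  haveI := Fact.mk Nat.prime_two
  obtain ⟨W, hW⟩ : ∃ W, W = (psl (F := F) 3).T v := ⟨_, rfl⟩
  rw [← hW] at hT
  obtain ⟨⟨b, hbW⟩, hbo⟩ := exists_prime_orderOf_dvd_card' (G := W) 2 (by omega)
  rw [Subgroup.orderOf_mk] at hbo
  have hb1 : b ≠ 1 := fun e => by rw [e, orderOf_one] at hbo; omega
  have hb : b * b = 1 := by rw [← pow_two]; exact orderOf_dvd_iff_pow_eq_one.mp (dvd_of_eq hbo)
  have hTb : (psl (F := F) 3).T b = W := by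
    rw [hW] at hbW ⊢
    exact ((psl (F := F) 3).T_eq v b hs hbW hb1).2
  have hsq : ∀ w : PSL, R.a * R.ι w * (R.a * R.ι w) = R.ι (w * w) := fun w => by
    rw [show R.a * R.ι w * (R.a * R.ι w) = R.a * (R.ι w * R.a) * R.ι w by group, ← (R.a_comm w).eq,
      ← mul_assoc R.a R.a, R.a_sq, one_mul, map_mul]
  have hιb : R.ι b ≠ 1 := (map_ne_one_iff R.ι R.ι_inj).mpr hb1
  have hiff : ∀ t : G, (orderOf t = 2 ∧ Commute t y) ↔
      g * t * g⁻¹ ∈ ({R.a, R.ι b, R.a * R.ι b} : Finset G) := by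
    intro t
    rw [← commute_conj_iff (g := g) (x := t) (y := y), hg, ← orderOf_conj' g t]
    generalize g * t * g⁻¹ = s
    rw [show (Commute s (R.ι v)) = (s ∈ R.lift W) by
      rw [hW, ← cent_minus R hv1 hvo, Subgroup.mem_centralizer_singleton_iff]; rfl]
    simp only [Finset.mem_insert, Finset.mem_singleton]
    constructor
    · rintro ⟨ho, w, hw, h⟩
      have hs1 : s ≠ 1 := fun e => by rw [e, orderOf_one] at ho; omega
      have hss : s * s = 1 := by rw [← pow_two]; exact orderOf_dvd_iff_pow_eq_one.mp (dvd_of_eq ho)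
      have hw2 : w * w = 1 := by
        rcases h with rfl | rfl
        · exact invol_PSL_of R hss
        · exact R.ι_inj (by rw [← hsq, hss, map_one])
      rcases involution_unique (psl 3) (invol_SS hb1 hb) (by rw [pow_two]; exact hb) (hTb.symm ▸ hw)
        (by rw [pow_two]; exact hw2) with rfl | rfl <;> rcases h with rfl | rfl
      · exact absurd (map_one R.ι) hs1
      · left; rw [map_one, mul_one]
      · right; left; rfl
      · right; right; rfl
    · intro h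
      have hab : R.a * R.ι b ≠ 1 := fun e => R.a_notin b⁻¹ (by rw [map_inv]; exact (eq_inv_of_mul_eq_one_left e).symm)
      rcases h with rfl | rfl | rfl
      · exact ⟨orderOf_invol R.a_ne R.a_sq, a_mem_lift R W⟩
      · exact ⟨orderOf_invol hιb (by rw [← map_mul, hb, map_one]), (ι_mem_lift R).mpr hbW⟩
      · exact ⟨orderOf_invol hab (by rw [hsq, hb, map_one]), (aι_mem_lift R).mpr hbW⟩
  have h1 : R.a ≠ R.a * R.ι b := fun e => hιb (mul_eq_left.mp e.symm)
  have h2 : R.ι b ≠ R.a * R.ι b := fun e => R.a_ne (mul_eq_right.mp e.symm)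
  let e : {t : G // orderOf t = 2 ∧ Commute t y} ≃ {s : G // s ∈ ({R.a, R.ι b, R.a * R.ι b} : Finset G)} :=
    (MulAut.conj g).toEquiv.subtypeEquiv fun t => hiff t
  rw [Nat.card_congr e, Nat.card_eq_finsetCard, Finset.card_insert_of_notMem (by simp [h1, (R.a_notin b).symm]),
    Finset.card_insert_of_notMem (by simp [h2]), Finset.card_singleton]

end CfsgLib.ReeLocal
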