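import Mathlib
import Cfsg.Agent.Lib.ReeLocal.Tori
import Cfsg.Agent.Lib.DicksonFull.Main

/-!
The numbers of elements of each order in a small Ree group.
-/

set_option autoImplicit false
set_option linter.unusedSectionVars false
set_option linter.style.haveILetI false
set_option linter.deprecated false
set_option linter.unusedVariables false

namespace CfsgLib.ReeLocal

open CfsgLib.DicksonFull CfsgLib.ReeTori

variable {F : Type*} [Field F] [Fintype F] {m : ℕ} [Fact (Nat.Prime 3)] [CharP F 3]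

local notation "PSL" => Matrix.ProjectiveSpecialLinearGroup (Fin 2) F
local notation "q" => Fintype.card F

/-- The elements of order three of `PSL₂(q)`. -/
theorem psl_three (D : QData F m) : Nat.card {w : PSL // orderOf w = 3} = q ^ 2 - 1 := by
  classical
  obtain ⟨u, hu⟩ := exists_three (F := F)
  obtain ⟨C, hC⟩ : ∃ C, C = cent u := ⟨_, rfl⟩
  obtain ⟨B, hB⟩ : ∃ B, B = bor u := ⟨_, rfl⟩
  obtain ⟨P, hP⟩ := exists_sylow_cent 3 hu
  have hcard := ti_count_pred C B (fun w => orderOf w = 3) (fun g z h => by rwa [orderOf_conj'])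
    (fun n hn x hx => by
      rw [hB] at hn
      rw [hC] at hx ⊢
      exact (Subgroup.mem_normalizer_iff.mp hn x).mp hx)
    (fun g x hx hx3 hgx => by
      rw [hC] at hx hgx
      rw [hB, bor, ← cent_eq (psl 3) hu hx3 (mem_cent.mp hx)]
      refine (mem_bor (psl 3) hx3).mpr ?_
      exact ((psl (F := F) 3).u_cen u _ _ hu (mem_cent.mp hgx) (mem_cent.mp hx)).1)
    (fun z hz => by
      obtain ⟨Q, hQ⟩ := (IsPGroup.of_card (n := 1) (by rw [Nat.card_zpowers, hz, pow_one]) :
        IsPGroup 3 (Subgroup.zpowers z)).exists_le_sylow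
      obtain ⟨g, hg⟩ := MulAction.exists_smul_eq PSL Q P
      refine ⟨g, ?_⟩
      rw [hC, ← hP, ← hg, Sylow.coe_subgroup_smul]
      exact Subgroup.smul_mem_pointwise_smul z (MulAut.conj g) _ (hQ (Subgroup.mem_zpowers z)))
  have hC3 : Nat.card {x : C // orderOf (x : PSL) = 3} = q - 1 := by
    haveI := Fintype.ofFinite C
    have e : ∀ x : C, orderOf (x : PSL) = 3 ↔ x ≠ 1 := fun x => by
      constructor
      · intro h e; rw [e, OneMemClass.coe_one, orderOf_one] at h; omega
      · exact fun h => orderOf_of_cent (psl 3) hu (hC ▸ x.2) fun e => h (Subtype.ext e)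
    rw [Nat.card_congr (Equiv.subtypeEquivRight e), Nat.card_eq_fintype_card, Fintype.card_subtype_compl,
      Fintype.card_subtype_eq, ← Nat.card_eq_fintype_card, hC, card_cent 3 hu]
  rw [hC3, ← (bor u).card_mul_index, index_bor 3 hu, ← hB] at hcard
  refine Nat.eq_of_mul_eq_mul_left (show 0 < Nat.card B from Nat.card_pos) ?_
  rw [mul_comm, hcard, mul_assoc, ← Nat.sq_sub_sq q 1, one_pow]

variable {G : Type*} [Group G] [Finite G] (R : Ree G F m)

include R

theorem card_order_two : Nat.card {z : G // orderOf z = 2} = q ^ 2 * (q ^ 2 - q + 1) := by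
  obtain ⟨k, hk, -⟩ := arith R
  have h := card_invol R
  rw [card_eq R, show q ^ 3 * (q - 1) * (q + 1) * (q ^ 2 - q + 1) = q ^ 2 * (q ^ 2 - q + 1) * (q * ((q + 1) * (q - 1))) by ring,
    ← Nat.sq_sub_sq q 1, one_pow] at h
  have h27 : 27 ≤ q := R.data.mod.2
  have hpos : 0 < q * (q ^ 2 - 1) := Nat.mul_pos (by omega)
    (Nat.sub_pos_of_lt (Nat.one_lt_pow two_ne_zero (by omega)))
  rw [← Nat.eq_of_mul_eq_mul_right hpos h]
  refine Nat.card_congr (Equiv.subtypeEquivRight fun z => ?_)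
  constructor
  · intro hz
    exact ⟨fun e => by rw [e, orderOf_one] at hz; omega,
      by rw [← pow_two]; exact orderOf_dvd_iff_pow_eq_one.mp (dvd_of_eq hz)⟩
  · rintro ⟨h1, h2⟩
    exact orderOf_invol h1 h2

theorem card_order_three {k : ℕ} (hk : Nat.card {x : R.U // orderOf (x : G) = 3} = k) :
    Nat.card {z : G // orderOf z = 3} = k * (q ^ 3 + 1) := by
  have h := ti_count_pred R.U (Subgroup.normalizer (R.U : Set G)) (fun z => orderOf z = 3)
    (fun g z h => by rwa [orderOf_conj']) (fun u hu x hx => (Subgroup.mem_normalizer_iff.mp hu x).mp hx)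
    (fun g x hx hx3 => R.U_ti g x hx fun e => by rw [e, orderOf_one] at hx3; omega)
    (fun z hz => three_conj R (i := 1) (by rw [hz, pow_one]))
  rw [hk, R.card_NU, R.card_G] at h
  obtain ⟨j, hj, -⟩ := arith R
  refine Nat.eq_of_mul_eq_mul_right (show 0 < q ^ 3 * (q - 1) from Nat.mul_pos (pow_pos (by omega) _) (by omega)) ?_
  rw [h]; ring

theorem card_order_nine (hk : Nat.card {x : R.U // orderOf (x : G) = 3} = q ^ 2 - 1) :
    Nat.card {z : G // orderOf z = 9} = q ^ 2 * (q - 1) * (q ^ 3 + 1) := by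
  classical
  have h := ti_count_pred R.U (Subgroup.normalizer (R.U : Set G)) (fun z => orderOf z = 9)
    (fun g z h => by rwa [orderOf_conj']) (fun u hu x hx => (Subgroup.mem_normalizer_iff.mp hu x).mp hx)
    (fun g x hx hx9 => R.U_ti g x hx fun e => by rw [e, orderOf_one] at hx9; omega)
    (fun z hz => three_conj R (i := 2) (by rw [hz]; norm_num))
  haveI := Fintype.ofFinite R.U
  have hsum : Nat.card {x : R.U // orderOf (x : G) = 9} + (q ^ 2 - 1) + 1 = q ^ 3 := by
    rw [← hk, ← R.card_U, Nat.card_eq_fintype_card (α := R.U), Fintype.card_eq_sum_ones,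
      card_eq_sum fun x : R.U => orderOf (x : G) = 9, card_eq_sum fun x : R.U => orderOf (x : G) = 3]
    have hone : ∑ x : R.U, (if x = 1 then 1 else 0) = 1 := by simp
    suffices h : ((∑ x : R.U, if orderOf (x : G) = 9 then 1 else 0) + ∑ x : R.U, if orderOf (x : G) = 3 then 1 else 0) +
        (∑ x : R.U, if x = 1 then 1 else 0) = ∑ _x : R.U, 1 by rwa [hone] at h
    rw [← Finset.sum_add_distrib, ← Finset.sum_add_distrib]
    refine Finset.sum_congr rfl fun x _ => ?_
    obtain ⟨i, hi, hxi⟩ := (Nat.dvd_prime_pow Nat.prime_three).mp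
      (show orderOf (x : G) ∣ 3 ^ 2 from orderOf_dvd_of_pow_eq_one (R.U_pow _ x.2))
    have hx : x = 1 ↔ orderOf (x : G) = 1 := by rw [orderOf_eq_one_iff, OneMemClass.coe_eq_one]
    interval_cases i <;> simp [hx, hxi]
  rw [R.card_NU, R.card_G] at h
  obtain ⟨j, hj, -⟩ := arith R
  refine Nat.eq_of_mul_eq_mul_right (show 0 < q ^ 3 * (q - 1) from Nat.mul_pos (pow_pos (by omega) _) (by omega)) ?_
  rw [h]
  have h9 : Nat.card {x : R.U // orderOf (x : G) = 9} = q ^ 2 * (q - 1) := by
    rw [Nat.mul_sub, mul_one, ← pow_succ, show 2 + 1 = 3 from rfl]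
    have := Nat.one_le_pow 2 q (by omega)
    omega
  rw [h9]; ring

/-- The elements of order three centralising an involution. -/
theorem three_commute {t : G} (ht : orderOf t = 2) :
    Nat.card {y : G // orderOf y = 3 ∧ Commute t y} = q ^ 2 - 1 := by
  have ht1 : t ≠ 1 := fun e => by rw [e, orderOf_one] at ht; omega
  obtain ⟨g, hg⟩ := invol_conj_a R ht1 (by rw [← pow_two]; exact orderOf_dvd_iff_pow_eq_one.mp (dvd_of_eq ht))
  rw [← psl_three R.data]
  let f : {w : PSL // orderOf w = 3} → {y : G // orderOf y = 3 ∧ Commute t y} := fun w =>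
    ⟨g⁻¹ * R.ι w.1 * g, by
      rw [show g⁻¹ * R.ι w.1 * g = g⁻¹ * R.ι w.1 * g⁻¹⁻¹ by rw [inv_inv], orderOf_conj', orderOf_injective R.ι R.ι_inj,
        show t = g⁻¹ * R.a * g⁻¹⁻¹ by rw [← hg]; group, commute_conj_iff]
      exact ⟨w.2, R.a_comm w.1⟩⟩
  refine (Nat.card_congr (Equiv.ofBijective f ⟨fun w w' e => ?_, ?_⟩)).symm
  · have e' : g⁻¹ * R.ι w.1 * g = g⁻¹ * R.ι w'.1 * g := congrArg Subtype.val e
    rw [mul_left_inj, mul_right_inj] at e'
    exact Subtype.ext (R.ι_inj e')
  · rintro ⟨y, hy3, hy⟩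
    have h1 : g * y * g⁻¹ ∈ R.lift ⊤ := by
      rw [← centralizer_a R, Subgroup.mem_centralizer_singleton_iff, ← hg]
      exact ((commute_conj_iff (g := g)).mpr hy.symm).eq
    obtain ⟨w, -, e, hwo⟩ := odd_mem_lift R h1 (by rw [orderOf_conj', hy3]; decide)
    refine ⟨⟨w, by rw [hwo, orderOf_conj', hy3]⟩, Subtype.ext ?_⟩
    show g⁻¹ * R.ι w * g = y
    rw [← e]; group

theorem card_order_six : Nat.card {z : G // orderOf z = 6} = q ^ 2 * (q - 1) * (q ^ 3 + 1) := by
  rw [show (6 : ℕ) = 2 * 3 from rfl, card_two_mul (by decide : Odd 3),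
    card_pairs_fst (fun t : G => orderOf t = 2) (fun y => orderOf y = 3) (fun t y => Commute t y)
      (fun t ht => three_commute R ht), card_order_two R, cube_eq R,
    show q ^ 2 - 1 = (q + 1) * (q - 1) by rw [← Nat.sq_sub_sq q 1, one_pow]]
  ring

theorem card_order_split {i : ℕ} (hi : 2 < i) (hd : i ∣ q - 1) :
    2 * Nat.card {z : G // orderOf z = i} = Nat.totient i * q ^ 3 * (q ^ 3 + 1) := by
  haveI := R.H_cyclic
  have hsq : ∀ {z : G}, orderOf z = i → z * z ≠ 1 := fun {z} hz e => by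
    have := Nat.le_of_dvd (by norm_num) (orderOf_dvd_of_pow_eq_one (x := z) (n := 2) (by rw [pow_two]; exact e))
    omega
  have h := ti_count_pred R.H R.N (fun z => orderOf z = i) (fun g z h => by rwa [orderOf_conj'])
    (fun u hu x hx => (Subgroup.mem_normalizer_iff.mp (N_norm R hu) x).mp hx)
    (fun g x hx hxi => R.split x hx (hsq hxi) g)
    (fun z hz => by obtain ⟨g, hg, -⟩ := split_conj R (hsq hz) (hz ▸ hd); exact ⟨g, hg⟩)
  rw [card_cyclic_order (by rwa [R.card_H]), R.card_N, R.card_G] at h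
  obtain ⟨j, hj, -⟩ := arith R
  refine Nat.eq_of_mul_eq_mul_right (show 0 < q - 1 by omega) ?_
  rw [mul_comm 2, mul_assoc, h]; ring

theorem card_order_minus {i : ℕ} (hi : 1 < i) (hd : i ∣ (q + 1) / 4) :
    6 * Nat.card {z : G // orderOf z = i} = Nat.totient i * q ^ 3 * (q - 1) * (q ^ 2 - q + 1) ∧
      2 * Nat.card {z : G // orderOf z = 2 * i} = Nat.totient i * q ^ 3 * (q - 1) * (q ^ 2 - q + 1) := by
  obtain ⟨A, hA⟩ := exists_minus_torus R
  obtain ⟨j, hj, -, -, ha2, -⟩ := arith R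
  have h := hA.count hi hd
  rw [card_eq R] at h
  have h6 : 6 * Nat.card {z : G // orderOf z = i} = Nat.totient i * q ^ 3 * (q - 1) * (q ^ 2 - q + 1) := by
    refine Nat.eq_of_mul_eq_mul_right (show 0 < q + 1 by omega) ?_
    rw [mul_comm 6, mul_assoc, h]; ring
  refine ⟨h6, ?_⟩
  rw [card_two_mul (Odd.of_dvd_nat ⟨j, by omega⟩ hd),
    card_pairs_snd (fun t : G => orderOf t = 2) (fun y => orderOf y = i) (fun t y => Commute t y)
      (fun y hy => minus_invol R (fun e => by rw [e, orderOf_one] at hy; omega) (hy ▸ hd)), ← h6]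
  ring

/-- The elements of order dividing one of `q ± √(3q) + 1`. -/
theorem card_order_big {i : ℕ} (hi : 1 < i) :
    (i ∣ q - 3 ^ (m + 1) + 1 →
      6 * Nat.card {z : G // orderOf z = i} = Nat.totient i * q ^ 3 * (q ^ 2 - 1) * (q + 3 ^ (m + 1) + 1)) ∧
    (i ∣ q + 3 ^ (m + 1) + 1 →
      6 * Nat.card {z : G // orderOf z = i} = Nat.totient i * q ^ 3 * (q ^ 2 - 1) * (q - 3 ^ (m + 1) + 1)) := by
  obtain ⟨A, B, hA, hB⟩ := exists_big R
  have hG : Nat.card G = q ^ 3 * (q ^ 2 - 1) * ((q - 3 ^ (m + 1) + 1) * (q + 3 ^ (m + 1) + 1)) := by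
    rw [card_eq R, big_prod R, show q ^ 2 - 1 = (q + 1) * (q - 1) by rw [← Nat.sq_sub_sq q 1, one_pow]]
    ring
  refine ⟨fun hd => ?_, fun hd => ?_⟩
  · have h := hA.count hi hd
    rw [hG] at h
    refine Nat.eq_of_mul_eq_mul_right (Nat.add_one_pos (q - 3 ^ (m + 1))) ?_
    rw [mul_comm 6, mul_assoc, h]; ring
  · have h := hB.count hi hd
    rw [hG] at h
    refine Nat.eq_of_mul_eq_mul_right (Nat.add_one_pos (q + 3 ^ (m + 1))) ?_
    rw [mul_comm 6, mul_assoc, h]; ring

end CfsgLib.ReeLocal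

namespace CfsgLib.ReeLocal

open CfsgLib.DicksonFull CfsgLib.ReeTori

variable {F : Type*} [Field F] [Fintype F] {m : ℕ} [Fact (Nat.Prime 3)] [CharP F 3]
  {G : Type*} [Group G] [Finite G] (R : Ree G F m)

include R in
/-- All subgroups of the order of `R.U` have equally many elements of each order. -/
theorem card_order_U {V : Subgroup G} (hV : Nat.card V = Fintype.card F ^ 3) (i : ℕ) :
    Nat.card {x : R.U // orderOf (x : G) = i} = Nat.card {x : V // orderOf (x : G) = i} := by
  let P : Sylow 3 G := Sylow.ofCard R.U (card_U_multiplicity R)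
  let Q : Sylow 3 G := Sylow.ofCard V (by rw [hV, ← R.card_U]; exact card_U_multiplicity R)
  have hP : (P : Subgroup G) = R.U := Sylow.coe_ofCard _ _
  have hQ : (Q : Subgroup G) = V := Sylow.coe_ofCard _ _
  rw [← hP, ← hQ]
  refine Nat.card_congr ((Sylow.equiv P Q).toEquiv.subtypeEquiv fun x => ?_)
  rw [Subgroup.orderOf_coe, Subgroup.orderOf_coe]
  exact (congrArg (· = i) ((Sylow.equiv P Q).orderOf_eq x)).symm ▸ Iff.rfl

end CfsgLib.ReeLocal
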