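import Mathlib
import Cfsg.Agent.Lib.ReeLocal.Tori

/-!
Solvable subgroups of a small Ree group normalise a Sylow 2- or 3-subgroup or a torus.
-/

set_option autoImplicit false
set_option linter.unusedSectionVars false
set_option linter.style.haveILetI false
set_option linter.deprecated false
set_option linter.unusedVariables false

namespace CfsgLib.ReeLocal

open CfsgLib.DicksonFull CfsgLib.ReeTori

variable {G : Type*} [Group G] [Finite G] {F : Type*} [Field F] [Fintype F] {m : ℕ} [Fact (Nat.Prime 3)]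
  [CharP F 3] (R : Ree G F m)

local notation "PSL" => Matrix.ProjectiveSpecialLinearGroup (Fin 2) F
local notation "q" => Fintype.card F

/-- The normalisers that occur. -/
def Good (_R : Ree G F m) (T : Subgroup G) : Prop :=
  ∃ A : Subgroup G, T ≤ Subgroup.normalizer (A : Set G) ∧
    ((∃ P : Sylow 2 G, A = P) ∨ (∃ P : Sylow 3 G, A = P) ∨
      (IsCyclic A ∧ (Nat.card A = (q - 1) / 2 ∨ Nat.card A = (q + 1) / 4 ∨
        Nat.card A = q - 3 ^ (m + 1) + 1 ∨ Nat.card A = q + 3 ^ (m + 1) + 1)))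

include R

theorem Good.mono {T T' : Subgroup G} (h : Good R T) (hle : T' ≤ T) : Good R T' := by
  obtain ⟨A, hA, hc⟩ := h
  exact ⟨A, hle.trans hA, hc⟩

theorem Good.of_conj {T : Subgroup G} (g : G) (h : Good R (T.map (MulAut.conj g).toMonoidHom)) : Good R T := by
  obtain ⟨A, hA, hc⟩ := h
  refine ⟨A.map (MulAut.conj g⁻¹).toMonoidHom, fun t ht => ?_, ?_⟩
  · have h1 := hA ⟨t, ht, rfl⟩
    rw [← Subgroup.map_normalizer_eq_of_bijective A (f := (MulAut.conj g⁻¹).toMonoidHom) (MulAut.conj g⁻¹).bijective]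
    exact ⟨_, h1, show g⁻¹ * (g * t * g⁻¹) * g⁻¹⁻¹ = t by group⟩
  · rcases hc with ⟨P, rfl⟩ | ⟨P, rfl⟩ | ⟨hcyc, hcard⟩
    · exact Or.inl ⟨g⁻¹ • P, by rw [Sylow.coe_subgroup_smul]; rfl⟩
    · exact Or.inr (Or.inl ⟨g⁻¹ • P, by rw [Sylow.coe_subgroup_smul]; rfl⟩)
    · haveI := hcyc
      refine Or.inr (Or.inr ⟨isCyclic_conj A g⁻¹, ?_⟩)
      rw [card_conj]; exact hcard

theorem good_two_group {T : Subgroup G} (hT : IsPGroup 2 T) : Good R T := by
  obtain ⟨P, hP⟩ := hT.exists_le_sylow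
  exact ⟨P, hP.trans Subgroup.le_normalizer, Or.inl ⟨P, rfl⟩⟩

/-- The normaliser of a four-group containing `a`. -/
theorem good_line {b : PSL} (hb1 : b ≠ 1) (hb : b * b = 1) :
    Good R (Subgroup.normalizer (R.lift (Subgroup.zpowers b) : Set G)) := by
  obtain ⟨k, hk, -, -, ha2, -⟩ := arith R
  have hs := invol_SS hb1 hb
  obtain ⟨W, hW⟩ : ∃ W, W = (psl (F := F) 3).T b := ⟨_, rfl⟩
  haveI : IsCyclic W := hW ▸ (psl (F := F) 3).T_cyclic b hs
  have hWc : 2 * Nat.card W = q + 1 := hW ▸ card_T_invol R.data hb1 hb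
  obtain ⟨⟨w, hw⟩, hwo⟩ := IsCyclic.exists_ofOrder_eq_natCard (α := W)
  rw [Subgroup.orderOf_mk] at hwo
  obtain ⟨A, hA⟩ : ∃ A, A = (Subgroup.zpowers (w ^ 2)).map R.ι := ⟨_, rfl⟩
  have hx : orderOf (w ^ 2) = (q + 1) / 4 := by
    rw [orderOf_pow, hwo, Nat.gcd_eq_right (by omega)]; omega
  have hAc : IsCyclic A := hA ▸ isCyclic_of_surjective _ (R.ι.subgroupMap_surjective (Subgroup.zpowers (w ^ 2)))
  refine ⟨A, le_norm fun y hy z hz => ?_, Or.inr (Or.inr ⟨hAc, Or.inr (Or.inl ?_)⟩)⟩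
  swap
  · rw [hA, Subgroup.card_map_of_injective R.ι_inj, Nat.card_zpowers, hx]
  rw [hA] at hz
  obtain ⟨v, hv, rfl⟩ := hz
  have hvW : v ∈ W := Subgroup.zpowers_le.mpr (pow_mem hw 2) hv
  have hvo : orderOf v ∣ (q + 1) / 4 := by
    rw [← hx, ← Nat.card_zpowers (w ^ 2)]; exact Subgroup.orderOf_dvd_natCard _ hv
  have hodd : Odd (orderOf v) := Odd.of_dvd_nat (by rw [ha2]; exact ⟨k, by omega⟩) hvo
  have hvb : Commute v b := tor_comm hs (hW ▸ hvW) ((psl 3).mem_T b hs)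
  -- `v` centralises the four-group, so its image does
  have hL : ∀ e ∈ R.lift (Subgroup.zpowers b), Commute (R.ι v) e := by
    intro e he
    rw [mem_line R hb hb1] at he
    rcases he with rfl | rfl | rfl | rfl
    · exact Commute.one_right _
    · exact (R.a_comm v).symm
    · exact hvb.map R.ι
    · exact (R.a_comm v).symm.mul_right (hvb.map R.ι)
  have hmove : ∀ e ∈ R.lift (Subgroup.zpowers b), Commute (y * R.ι v * y⁻¹) e := by
    intro e he
    have h1 := (commute_conj_iff (g := y)).mpr (hL _ ((Subgroup.mem_normalizer_iff''.mp hy e).mp he))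
    rwa [show y * (y⁻¹ * e * y) * y⁻¹ = e by group] at h1
  obtain ⟨u, hu, e, huo⟩ := odd_mem_lift R (W := ⊤) (y := y * R.ι v * y⁻¹) (by
      rw [← centralizer_a R, Subgroup.mem_centralizer_singleton_iff]
      exact (hmove R.a (a_mem_lift R _)).eq)
    (by rw [orderOf_conj', orderOf_injective R.ι R.ι_inj]; exact hodd)
  rw [orderOf_conj', orderOf_injective R.ι R.ι_inj] at huo
  have hub : Commute u b := (commute_ι_iff R).mp (e ▸ hmove _ ((ι_mem_lift R).mpr (Subgroup.mem_zpowers b)))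
  have huW : u ∈ W := by
    rw [hW]
    by_contra hn
    have h4 := inverter_sq (psl 3) hs (by rw [hub.eq, mul_inv_cancel_right]; exact (psl 3).mem_T b hs) hn
    have hu1 : u ≠ 1 := fun e => hn (e ▸ one_mem _)
    have h5 := orderOf_invol hu1 (by rw [← pow_two]; exact h4)
    rw [← huo, h5] at hodd
    exact absurd hodd (by decide)
  rw [e, hA]
  exact ⟨u, mem_of_pow_eq_one (Subgroup.zpowers_le.mpr (pow_mem hw 2)) huW
    (by rw [Nat.card_zpowers, hx]; exact orderOf_dvd_iff_pow_eq_one.mp (huo ▸ hvo)), rfl⟩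

/-- Elementary abelian subgroups of order four. -/
theorem good_four {E : Subgroup G} (h4 : Nat.card E = 4) (hexp : ∀ e ∈ E, e * e = 1) :
    Good R (Subgroup.normalizer (E : Set G)) := by
  obtain ⟨⟨t, ht⟩, ht1⟩ : ∃ t : E, t ≠ 1 := by
    haveI : Nontrivial E := Finite.one_lt_card_iff_nontrivial.mp (by omega)
    exact exists_ne 1
  obtain ⟨g, hg⟩ := invol_conj_a R (fun e => ht1 (Subtype.ext e)) (hexp t ht)
  refine Good.of_conj R g ?_
  rw [Subgroup.map_normalizer_eq_of_bijective E (f := (MulAut.conj g).toMonoidHom) (MulAut.conj g).bijective]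
  obtain ⟨E', hE'⟩ : ∃ E', E' = E.map (MulAut.conj g).toMonoidHom := ⟨_, rfl⟩
  rw [← hE']
  have h4' : Nat.card E' = 4 := by rw [hE', card_conj, h4]
  have hexp' : ∀ e ∈ E', e * e = 1 := by
    rw [hE']
    rintro _ ⟨e, he, rfl⟩
    rw [← map_mul, hexp e he, map_one]
  have haE : R.a ∈ E' := hE' ▸ ⟨t, ht, hg⟩
  obtain ⟨e, he, hea⟩ : ∃ e ∈ E', e ∉ Subgroup.zpowers R.a := by
    by_contra hc
    push Not at hc
    have h := Subgroup.card_le_of_le (show E' ≤ Subgroup.zpowers R.a from hc)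
    rw [h4', Nat.card_zpowers, orderOf_invol R.a_ne R.a_sq] at h
    omega
  have hcomm : Commute e R.a := by
    have h := hexp' _ (mul_mem he haE)
    show e * R.a = R.a * e
    rw [← inv_eq_of_mul_eq_one_left h, _root_.mul_inv_rev, inv_eq_of_mul_eq_one_left R.a_sq,
      inv_eq_of_mul_eq_one_left (hexp' e he)]
  obtain ⟨b, hb'⟩ := R.cent e hcomm
  have hbE : R.ι b ∈ E' := by
    rcases hb' with h | h
    · exact h ▸ he
    · have := mul_mem haE he
      rwa [h, ← mul_assoc, R.a_sq, one_mul] at this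
  have hb : b * b = 1 := invol_PSL_of R (hexp' _ hbE)
  have hb1 : b ≠ 1 := by
    rintro rfl
    rcases hb' with h | h <;> rw [h, map_one] at hea
    · exact hea (one_mem _)
    · exact hea (by rw [mul_one]; exact Subgroup.mem_zpowers _)
  have hle : R.lift (Subgroup.zpowers b) ≤ E' := by
    intro y hy
    rw [mem_line R hb hb1] at hy
    rcases hy with rfl | rfl | rfl | rfl
    · exact one_mem _
    · exact haE
    · exact hbE
    · exact mul_mem haE hbE
  rw [← Subgroup.eq_of_le_of_card_ge hle (by rw [h4', card_lift', Nat.card_zpowers, orderOf_invol hb1 hb])]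
  exact good_line R hb1 hb

/-- A normalised elementary 3-subgroup. -/
theorem good_three {E : Subgroup G} (hne : E ≠ ⊥) (hexp : ∀ e ∈ E, e ^ 3 = 1)
    (hcomm : ∀ x ∈ E, ∀ y ∈ E, Commute x y) : Good R (Subgroup.normalizer (E : Set G)) := by
  obtain ⟨e, he, he1⟩ : ∃ e ∈ E, e ≠ 1 := by
    by_contra hc
    push Not at hc
    exact hne ((Subgroup.eq_bot_iff_forall _).mpr hc)
  have heo : orderOf e = 3 := orderOf_eq_prime (hexp e he) he1
  obtain ⟨g, hg⟩ := three_conj R (i := 1) (by rw [heo, pow_one])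
  refine Good.of_conj R g ?_
  let P : Sylow 3 G := Sylow.ofCard R.U (card_U_multiplicity R)
  refine ⟨R.U, ?_, Or.inr (Or.inl ⟨P, (Sylow.coe_ofCard _ _).symm⟩)⟩
  obtain ⟨N, hN⟩ : ∃ N, N = Subgroup.normalizer (R.U : Set G) := ⟨_, rfl⟩
  rw [← hN]
  rintro _ ⟨s, hs, rfl⟩
  have hf : s * e * s⁻¹ ∈ E := (Subgroup.mem_normalizer_iff.mp hs e).mp he
  obtain ⟨f, hf'⟩ : ∃ f, f = g * (s * e * s⁻¹) * g⁻¹ := ⟨_, rfl⟩
  have hfN : f ∈ N := by
    rw [hN]
    refine R.U_ti f (g * e * g⁻¹) hg (conj_ne_one he1) ?_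
    have hc : Commute f (g * e * g⁻¹) := hf' ▸ (commute_conj_iff (g := g)).mpr (hcomm _ hf e he)
    rw [hc.eq, mul_inv_cancel_right]
    exact hg
  have hf3 : f ^ 3 = 1 := by rw [hf', conj_pow, hexp _ hf, mul_one, mul_inv_cancel]
  have hUN : R.U ≤ N := hN ▸ Subgroup.le_normalizer
  haveI : (R.U.subgroupOf N).Normal := by subst hN; exact Subgroup.normal_in_normalizer
  have hidx : Nat.card (N ⧸ R.U.subgroupOf N) = q - 1 := by
    obtain ⟨k, hk, -⟩ := arith R
    have h := (R.U.subgroupOf N).card_eq_card_quotient_mul_card_subgroup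
    rw [Nat.card_congr (Subgroup.subgroupOfEquivOfLe hUN).toEquiv, R.card_U, hN, R.card_NU, ← hN, mul_comm] at h
    exact (Nat.eq_of_mul_eq_mul_right (pow_pos (show 0 < q by omega) 3) h).symm
  have hfU : f ∈ R.U := by
    have h1 : orderOf (QuotientGroup.mk' (R.U.subgroupOf N) ⟨f, hfN⟩) ∣ Nat.gcd 3 (q - 1) := by
      refine Nat.dvd_gcd (orderOf_dvd_of_pow_eq_one ?_) (hidx ▸ orderOf_dvd_natCard _)
      rw [← map_pow, show (⟨f, hfN⟩ : N) ^ 3 = 1 from Subtype.ext hf3, map_one]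
    have h2 : Nat.gcd 3 (q - 1) = 1 := by
      obtain ⟨k, hk, -, -, -, h3⟩ := arith R
      exact (Nat.prime_three.coprime_iff_not_dvd).mpr (by omega)
    rw [h2, Nat.dvd_one, orderOf_eq_one_iff] at h1
    exact Subgroup.mem_subgroupOf.mp ((QuotientGroup.eq_one_iff (⟨f, hfN⟩ : N)).mp h1)
  rw [hN]
  show g * s * g⁻¹ ∈ _
  refine R.U_ti _ (g * e * g⁻¹) hg (conj_ne_one he1) ?_
  rwa [show g * s * g⁻¹ * (g * e * g⁻¹) * (g * s * g⁻¹)⁻¹ = g * (s * e * s⁻¹) * g⁻¹ by group, ← hf']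

/-- A normalised elementary `r`-subgroup, `r > 3`. -/
theorem good_prime {r : ℕ} [Fact r.Prime] (hr3 : 3 < r) {E : Subgroup G} (hne : E ≠ ⊥)
    (hexp : ∀ e ∈ E, e ^ r = 1) : Good R (Subgroup.normalizer (E : Set G)) := by
  obtain ⟨e, he, he1⟩ : ∃ e ∈ E, e ≠ 1 := by
    by_contra hc
    push Not at hc
    exact hne ((Subgroup.eq_bot_iff_forall _).mpr hc)
  have hr : r.Prime := Fact.out
  have heo : orderOf e = r := orderOf_eq_prime (hexp e he) he1
  have hrd : r ∣ (q - 1) / 2 ∨ r ∣ (q + 1) / 4 ∨ r ∣ q - 3 ^ (m + 1) + 1 ∨ r ∣ q + 3 ^ (m + 1) + 1 := by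
    rcases prime_cases R hr (heo ▸ orderOf_dvd_natCard e) with h | h | ⟨-, h⟩ | ⟨-, h⟩ | h
    · omega
    · omega
    · left
      obtain ⟨k, hk, -⟩ := arith R
      rw [show q - 1 = 2 * ((q - 1) / 2) by omega] at h
      exact (hr.dvd_mul.mp h).resolve_left fun h2 => by
        have := Nat.le_of_dvd (by norm_num) h2; omega
    · exact Or.inr (Or.inl h)
    · rw [← big_prod R] at h
      exact Or.inr (Or.inr (hr.dvd_mul.mp h))
  obtain ⟨A, B, hA, hB⟩ := exists_big R
  obtain ⟨T, t, n, hT, hrt, ht⟩ : ∃ (T : Subgroup G) (t n : ℕ), IsTorus T t n ∧ r ∣ t ∧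
      (t = (q - 1) / 2 ∨ t = (q + 1) / 4 ∨ t = q - 3 ^ (m + 1) + 1 ∨ t = q + 3 ^ (m + 1) + 1) := by
    rcases hrd with h | h | h | h
    · obtain ⟨C, hC⟩ := exists_split R; exact ⟨C, _, _, hC, h, Or.inl rfl⟩
    · obtain ⟨C, hC⟩ := exists_minus_torus R; exact ⟨C, _, _, hC, h, Or.inr (Or.inl rfl)⟩
    · exact ⟨A, _, _, hA, h, Or.inr (Or.inr (Or.inl rfl))⟩
    · exact ⟨B, _, _, hB, h, Or.inr (Or.inr (Or.inr rfl))⟩
  haveI := hT.cyc
  obtain ⟨g, hg⟩ := hT.cov e he1 (heo ▸ hrt)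
  refine Good.of_conj R g ⟨T, ?_, Or.inr (Or.inr ⟨hT.cyc, by rwa [hT.card]⟩)⟩
  rintro _ ⟨s, hs, rfl⟩
  obtain ⟨P, hP⟩ := (show IsPGroup r E from fun x => ⟨1, Subtype.ext (by simpa using hexp x x.2)⟩).exists_le_sylow
  haveI := R.cyclic hr3 P
  have hf : s * e * s⁻¹ ∈ Subgroup.zpowers e := by
    have hse := (Subgroup.mem_normalizer_iff.mp hs e).mp he
    refine mem_of_pow_eq_one (A := (P : Subgroup G)) (Subgroup.zpowers_le.mpr (hP he)) (hP hse) ?_
    rw [Nat.card_zpowers, heo]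
    exact hexp _ hse
  refine hT.ti _ (g * e * g⁻¹) hg (conj_ne_one he1) ?_
  show g * s * g⁻¹ * (g * e * g⁻¹) * (g * s * g⁻¹)⁻¹ ∈ T
  rw [show g * s * g⁻¹ * (g * e * g⁻¹) * (g * s * g⁻¹)⁻¹ = g * (s * e * s⁻¹) * g⁻¹ by group]
  obtain ⟨j, hj⟩ := Subgroup.mem_zpowers_iff.mp hf
  rw [← hj, ← conj_zpow]
  exact zpow_mem hg j

/-- The normaliser of an elementary abelian subgroup other than of order two. -/
theorem good_elem {r : ℕ} (hr : r.Prime) {E : Subgroup G} (hne : E ≠ ⊥) (hexp : ∀ e ∈ E, e ^ r = 1)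
    (hcomm : ∀ x ∈ E, ∀ y ∈ E, Commute x y) (h2 : r = 2 → 3 ≤ Nat.card E) :
    Good R (Subgroup.normalizer (E : Set G)) := by
  haveI := Fact.mk hr
  by_cases hr2 : r = 2
  · subst hr2
    obtain ⟨P, hP⟩ := (show IsPGroup 2 E from fun x => ⟨1, Subtype.ext (by simpa using hexp x x.2)⟩).exists_le_sylow
    have hd : Nat.card E ∣ 2 ^ 3 := by
      have h := Subgroup.card_dvd_of_le hP
      rw [show Nat.card (P : Subgroup G) = 8 from (R.syl P).1] at h
      exact h
    obtain ⟨i, hi, hEi⟩ := (Nat.dvd_prime_pow Nat.prime_two).mp hd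
    have h3 := h2 rfl
    have hcases : Nat.card E = 4 ∨ Nat.card E = 8 := by
      interval_cases i <;> simp_all
    rcases hcases with h4 | h8
    · exact good_four R h4 fun e he => by rw [← pow_two]; exact hexp e he
    · have hEP : E = P := Subgroup.eq_of_le_of_card_ge hP (le_of_eq ((R.syl P).1.trans h8.symm))
      exact ⟨E, le_rfl, Or.inl ⟨P, hEP⟩⟩
  · by_cases hr3 : r = 3
    · subst hr3
      exact good_three R hne hexp hcomm
    · exact good_prime R (by have := hr.two_le; omega) hne hexp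

/-- Solvable subgroups of the centraliser of `a`. -/
theorem good_cent {T : Subgroup G} (hT : Group.IsSolvable T) (ha : T ≤ Subgroup.centralizer {R.a}) : Good R T := by
  haveI := hT
  have hc : ∀ (x : T) (y : Subgroup.zpowers R.a), Commute (T.subtype x) ((Subgroup.zpowers R.a).subtype y) := by
    intro x y
    obtain ⟨j, hj⟩ := Subgroup.mem_zpowers_iff.mp y.2
    have h1 : Commute (x : G) R.a := Subgroup.mem_centralizer_singleton_iff.mp (ha x.2)
    show Commute (x : G) (y : G)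
    rw [← hj]
    exact h1.zpow_right j
  obtain ⟨f, hf⟩ : ∃ f, f = T.subtype.noncommCoprod (Subgroup.zpowers R.a).subtype hc := ⟨_, rfl⟩
  haveI : Group.IsSolvable (Subgroup.zpowers R.a) := Group.isSolvable_of_comm fun x y => by
    obtain ⟨i, hi⟩ := Subgroup.mem_zpowers_iff.mp x.2
    obtain ⟨j, hj⟩ := Subgroup.mem_zpowers_iff.mp y.2
    exact Subtype.ext (by show (x : G) * y = y * x; rw [← hi, ← hj, ← zpow_add, ← zpow_add, add_comm])
  haveI : Group.IsSolvable f.range := Group.isSolvable_of_surjective f.rangeRestrict_surjective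
  have hTle : T ≤ f.range := fun x hx => ⟨(⟨x, hx⟩, 1), by rw [hf]; simp [MonoidHom.noncommCoprod_apply]⟩
  have haR : R.a ∈ f.range :=
    ⟨(1, ⟨R.a, Subgroup.mem_zpowers _⟩), by rw [hf]; simp [MonoidHom.noncommCoprod_apply]⟩
  obtain ⟨W, hW⟩ : ∃ W, W = f.range.comap R.ι := ⟨_, rfl⟩
  have hWsol : Group.IsSolvable W := by
    rw [hW]
    exact Group.isSolvable_of_isSolvable_injective (f := R.ι.subgroupComap f.range)
      fun x y e => Subtype.ext (R.ι_inj (congrArg Subtype.val e))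
  have hTW : T ≤ R.lift W := by
    intro y hy
    obtain ⟨z, hz⟩ := R.cent y (Subgroup.mem_centralizer_singleton_iff.mp (ha hy))
    refine ⟨z, ?_, hz⟩
    rw [hW, Subgroup.mem_comap]
    rcases hz with h | h
    · exact h ▸ hTle hy
    · have := mul_mem haR (hTle hy)
      rwa [h, ← mul_assoc, R.a_sq, one_mul] at this
  refine Good.mono R ?_ hTW
  by_cases hWb : W = ⊥
  · refine good_two_group R (IsPGroup.of_card (n := 1) ?_)
    rw [card_lift', hWb, Subgroup.card_bot, pow_one, mul_one]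
  obtain ⟨r, E, hr, hN, hE0, hexp, hcomm⟩ := exists_elem_normal' hWsol hWb
  have hconj : ∀ w ∈ W, ∀ x ∈ E, w * x * w⁻¹ ∈ E := fun w hw x hx =>
    (Subgroup.mem_normalizer_iff.mp (hN hw) x).mp hx
  have haι : ∀ (w x : PSL), R.a * R.ι w * R.ι x * (R.a * R.ι w)⁻¹ = R.ι (w * x * w⁻¹) := fun w x => by
    rw [show R.a * R.ι w * R.ι x * (R.a * R.ι w)⁻¹ = R.a * (R.ι w * R.ι x * (R.ι w)⁻¹) * R.a⁻¹ by group,
      ← map_inv, ← map_mul, ← map_mul, (R.a_comm _).eq, mul_inv_cancel_right]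
  have haa : ∀ w : PSL, R.ι w * R.a * (R.ι w)⁻¹ = R.a := fun w => by
    rw [← (R.a_comm w).eq, mul_inv_cancel_right]
  have hιmap : ∀ y ∈ R.lift W, ∀ x ∈ E, ∃ x' ∈ E, y * R.ι x * y⁻¹ = R.ι x' := by
    rintro y ⟨w, hw, h⟩ x hx
    refine ⟨_, hconj w hw x hx, ?_⟩
    rcases h with rfl | rfl
    · rw [map_mul, map_mul, map_inv]
    · exact haι w x
  by_cases hr2 : r = 2
  · subst hr2
    have h2 : ∀ x ∈ E, x * x = 1 := fun x hx => by rw [← pow_two]; exact hexp x hx
    refine Good.mono R (good_elem R Nat.prime_two (E := R.lift E) ?_ ?_ ?_ fun _ => ?_) (le_norm fun y hy z hz => ?_)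
    · exact fun e => R.a_ne (Subgroup.mem_bot.mp (e ▸ a_mem_lift R E))
    · rintro _ ⟨x, hx, rfl | rfl⟩
      · rw [← map_pow, hexp x hx, map_one]
      · rw [(R.a_comm x).mul_pow, pow_two, R.a_sq, one_mul, ← map_pow, hexp x hx, map_one]
    · rintro u ⟨x, hx, h⟩ v ⟨x', hx', h'⟩
      have hxx : Commute (R.ι x) (R.ι x') := (hcomm x hx x' hx').map R.ι
      rcases h with rfl | rfl <;> rcases h' with rfl | rfl
      · exact hxx
      · exact (R.a_comm x).symm.mul_right hxx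
      · exact (R.a_comm x').mul_left hxx
      · exact ((Commute.refl R.a).mul_right (R.a_comm x')).mul_left ((R.a_comm x).symm.mul_right hxx)
    · rw [card_lift']
      have := (Subgroup.one_lt_card_iff_ne_bot E).mpr hE0
      omega
    · obtain ⟨x, hx, rfl | rfl⟩ := hz
      · obtain ⟨x', hx', e⟩ := hιmap y hy x hx
        exact ⟨x', hx', Or.inl e⟩
      · obtain ⟨x', hx', e⟩ := hιmap y hy x hx
        refine ⟨x', hx', Or.inr ?_⟩
        have hya : y * R.a * y⁻¹ = R.a := by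
          obtain ⟨w, -, rfl | rfl⟩ := hy
          · exact haa w
          · rw [show R.a * R.ι w * R.a * (R.a * R.ι w)⁻¹ = R.a * (R.ι w * R.a * (R.ι w)⁻¹) * R.a⁻¹ by group, haa,
              mul_inv_cancel_right]
        rw [show y * (R.a * R.ι x) * y⁻¹ = (y * R.a * y⁻¹) * (y * R.ι x * y⁻¹) by group, hya, e]
  · refine Good.mono R (good_elem R hr (E := E.map R.ι) ?_ ?_ ?_ fun h => absurd h hr2) (le_norm fun y hy z hz => ?_)
    · rw [Ne, Subgroup.map_eq_bot_iff_of_injective _ R.ι_inj]; exact hE0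
    · rintro _ ⟨x, hx, rfl⟩
      rw [← map_pow, hexp x hx, map_one]
    · rintro _ ⟨x, hx, rfl⟩ _ ⟨x', hx', rfl⟩
      exact (hcomm x hx x' hx').map R.ι
    · obtain ⟨x, hx, rfl⟩ := hz
      obtain ⟨x', hx', e⟩ := hιmap y hy x hx
      exact ⟨x', hx', e.symm⟩

theorem solvable_normalizes {S : Subgroup G} (hS : Group.IsSolvable S) : Good R S := by
  by_cases hb : S = ⊥
  · rw [hb]; exact good_two_group R IsPGroup.of_bot
  obtain ⟨r, E, hr, hN, hE0, hexp, hcomm⟩ := exists_elem_normal' hS hb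
  by_cases h : r = 2 → 3 ≤ Nat.card E
  · exact (good_elem R hr hE0 hexp hcomm h).mono R hN
  rw [Classical.not_imp] at h
  obtain ⟨rfl, h3⟩ := h
  have h1 := (Subgroup.one_lt_card_iff_ne_bot E).mpr hE0
  obtain ⟨t, ht, ht1⟩ : ∃ t ∈ E, t ≠ 1 := by
    by_contra hc
    push Not at hc
    exact hE0 ((Subgroup.eq_bot_iff_forall _).mpr hc)
  have htt : t * t = 1 := by rw [← pow_two]; exact hexp t ht
  have hEt : Subgroup.zpowers t = E := Subgroup.eq_of_le_of_card_ge (Subgroup.zpowers_le.mpr ht)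
    (by rw [Nat.card_zpowers, orderOf_invol ht1 htt]; omega)
  obtain ⟨g, hg⟩ := invol_conj_a R ht1 htt
  refine Good.of_conj R g (good_cent R ?_ ?_)
  · haveI := hS
    exact Group.isSolvable_of_surjective (S.equivMapOfInjective _ (MulAut.conj g).injective).surjective
      (f := (S.equivMapOfInjective _ (MulAut.conj g).injective).toMonoidHom)
  · rintro _ ⟨s, hs, rfl⟩
    have h2 : s * t * s⁻¹ ∈ Subgroup.zpowers t := hEt.symm ▸ (Subgroup.mem_normalizer_iff.mp (hN hs) t).mp ht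
    have h4 : s * t * s⁻¹ = t := by
      classical
      rw [mem_zpowers_iff_mem_range_orderOf, orderOf_invol ht1 htt] at h2
      simp only [Finset.range_add_one, Finset.range_zero, Finset.image_insert, Finset.image_empty, pow_zero,
        pow_one, Finset.mem_insert, Finset.notMem_empty, or_false] at h2
      rcases h2 with e | e
      · exact e
      · exact absurd e (conj_ne_one ht1)
    rw [Subgroup.mem_centralizer_singleton_iff, ← hg]
    exact ((commute_conj_iff (g := g)).mpr (mul_inv_eq_iff_eq_mul.mp h4)).eq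

end CfsgLib.ReeLocal
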